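import Cfsg.Agent.Mrg.Omega.OM.Var.UniV
import Cfsg.Agent.Mrg.Omega.OM.UniPlus
import Cfsg.Agent.Mrg.Omega.OM.BlkGen
import Cfsg.Agent.Mrg.Omega.Assembly

section


/-!
# UNI+ for frames with different `q i` (port of the frame part of `OM/UniPlus.lean`)

* `nb_of`, `mem_C_iff`, `not_comm`, `perm_comm`, `C_le_of_two_lt`, `mem_C_of`, `card_ZJ`, `caseA`;
* `uniPlus`, `uniPlus'` : UNI+: every FF-block `L'` over `B` (natural or not, any field) is natural with `Z' = Z i`,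
  `q' = q i` for one `i` and either `V' ≤ W i ZJ` and `C_ZJ(L') = ZJ ∩ C i`, or `|ZJ| = 4` and all `q j = 2`;
* `two'` : (2').
-/

set_option autoImplicit false

namespace Cfsg.Agent.Omega.OM.Var

open Subgroup Cfsg Cfsg.Agent.PLocal.ThompsonJ Cfsg.Agent.ZN Cfsg.Agent.ZN.ChoiceBase
open Cfsg.Agent.PLocal.ElemAbSup
open Cfsg.Agent.Omega.SQ1.Bau (mem_sup_comm card_sup_comm elem_comm elem_sq)
open Cfsg.Agent.Omega.OM.BlockUniq
open Cfsg.Agent.Omega.OM.Uni (Md FB comm_cj cj_comm)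
open Cfsg.Agent.Omega.OM.UniPlus (NB exists_comm_range exists_eq_comm exists_fix uni_two)
open Cfsg.Agent.Omega.OM.WeakCl
open scoped Pointwise commutatorElement

universe u

variable {G : Type u} [Group G]

/-! ### The frame -/

section frame

variable {ι : Type*} {B Q V ZJ : Subgroup G} {L W Z C A : ι → Subgroup G} {q : ι → ℕ} {m : ℕ}
variable {L' V' Z' : Subgroup G} {q' : ℕ}

theorem nb (h : Fr B Q V ZJ L W Z C A q m) (i : ι) : NB B (L i) (W i) (Z i) (q i) :=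
  ⟨h.blk i, h.cardZ i⟩

theorem W_le_B (h : Fr B Q V ZJ L W Z C A q m) (i : ι) : W i ≤ B := (h.WV i).trans (h.VQ.trans h.QB)

/-- a block `L'` over `B` with `[V', B] = Z i` is natural. -/
theorem nb_of [Finite G] (h : Fr B Q V ZJ L W Z C A q m) {i : ι} (h' : FB B L' V' Z' (q i)) (hc : ⁅V', B⁆ = Z i) :
    Z' = Z i ∧ NB B L' V' (Z i) (q i) := by
  have h1 : Z i ≤ Z' := by rw [← hc]; exact h'.comm_le le_rfl
  obtain ⟨k, hk, hs⟩ := h'.sup
  rw [hc] at hs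
  have hcjW : cj k (Z i) ≤ V' := by
    rintro _ ⟨z, hz, rfl⟩
    exact h'.nV k hk z (h'.ZV (h1 hz))
  have hcc := card_sup_comm (A := Z i) (B := cj k (Z i)) fun a ha b hb' => h'.comm (h'.ZV (h1 ha)) (hcjW hb')
  rw [card_cj, h.cardZ i] at hcc
  have h2 : Nat.card V' ≤ q i * q i := by
    refine (Subgroup.card_le_of_le hs).trans ?_
    calc Nat.card ↥(Z i ⊔ cj k (Z i) : Subgroup G) = Nat.card ↥(Z i ⊔ cj k (Z i) : Subgroup G) * 1 := (mul_one _).symm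
      _ ≤ Nat.card ↥(Z i ⊔ cj k (Z i) : Subgroup G) * Nat.card ↥(Z i ⊓ cj k (Z i) : Subgroup G) :=
          Nat.mul_le_mul_left _ Nat.card_pos
      _ = q i * q i := hcc
  rw [h'.card] at h2
  have h3 : Nat.card Z' ≤ q i := Nat.le_of_mul_le_mul_right h2 (by have := h'.one; omega)
  have h4 : Z i = Z' := Subgroup.eq_of_le_of_card_ge h1 (by rw [h.cardZ i]; exact h3)
  refine ⟨h4.symm, ?_⟩
  rw [h4]
  exact ⟨h', by rw [← h4]; exact h.cardZ i⟩

/-- `ZJ ∩ C i = C_{ZJ}(L i)` -/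
theorem mem_C_iff [Finite G] (h : Fr B Q V ZJ L W Z C A q m) {i : ι} {z : G} (hz : z ∈ ZJ) :
    z ∈ C i ↔ ∀ l ∈ L i, l * z = z * l := by
  constructor
  · exact fun hc l hl => h.LC i l hl z hz hc
  · intro hL
    obtain ⟨w, hw, c, hc, hcJ, e⟩ := h.split_ZJ i hz
    have h1 : w = 1 := by
      refine (nb h i).cent hw fun l hl => ?_
      have h2 := hL l hl
      have h3 := h.LC i l hl c hcJ hc
      have e1 : w = z * c⁻¹ := by rw [e]; group
      have c1 : Commute l z := h2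
      have c2 : Commute l c := h3
      rw [e1]
      exact (c1.mul_right c2.inv_right).eq
    rw [e, h1, one_mul]
    exact hc

/-- **UNI+ (A), first step**: a module not commuting with `W i`. -/
theorem not_comm [Finite G] (h : Fr B Q V ZJ L W Z C A q m) (h' : Md B V' Z' q') {i : ι} {w' w : G} (hw' : w' ∈ V')
    (hw : w ∈ W i) (hne : w' * w ≠ w * w') : q' = q i ∧ ⁅V', B⁆ = Z i := by
  have hb := h.blk i
  have hWB := W_le_B h i
  have hn1 : ¬ ∀ u ∈ W i, w' * u = u * w' := fun h1 => hne (h1 w hw)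
  have hn2 : ¬ ∀ u ∈ V', w * u = u * w := fun h1 => hne (h1 w' hw').symm
  have hge : Z i ≤ ⁅V', B⁆ := by
    intro z hz
    obtain ⟨v, hv, e⟩ := exists_eq_comm hb.toMd (h.cardZ i) (h'.VB hw') hn1 hz
    rw [e]
    exact commutator_mem_commutator hw' (hWB hv)
  have hle1 : q' ≤ q i := by
    obtain ⟨R, -, h2, -, h4⟩ := exists_comm_range h' (hWB hw) hn2
    rw [← h4, ← h.cardZ i]
    refine Subgroup.card_le_of_le fun r hr => ?_
    obtain ⟨v, hv, rfl⟩ := h2 r hr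
    have h5 := hb.com v (h'.VB hv) w hw
    have e : w * v * w⁻¹ * v⁻¹ = (v * w * v⁻¹ * w⁻¹)⁻¹ := by group
    rw [e]
    exact inv_mem h5
  have hcZ : W i ⊓ centralizer (V' : Set G) ≤ Z i := by
    rintro u ⟨hu, huc⟩
    exact hb.mem_Z (h'.VB hw') hn1 hu (mem_centralizer_iff.1 huc w' hw')
  have hcc := Subgroup.card_le_of_le hcZ
  rw [h.cardZ i] at hcc
  have hWc : Nat.card (W i) = q i * q i := by rw [hb.card, h.cardZ i]
  have hq0 : 0 < q i := by have := hb.one; omega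
  have hle2 : q i ≤ q' := by
    have h1 := h'.card_le hWB
    rw [hWc] at h1
    exact Nat.le_of_mul_le_mul_right (h1.trans (Nat.mul_le_mul_left _ hcc)) hq0
  have hq : q' = q i := le_antisymm hle1 hle2
  refine ⟨hq, le_antisymm ?_ hge⟩
  have h1 := h'.comm_eq hWB (by
    rw [hWc, hq]
    exact Nat.mul_le_mul_left _ hcc)
  rw [← h1, Subgroup.commutator_le]
  intro v hv u hu
  exact hb.com v (h'.VB hv) u hu

/-- An element permuting the `Z j` with `[ZJ, g] ≤ Z i` centralises `ZJ ∩ C i`. -/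
theorem perm_comm [Finite ι] (h : Fr B Q V ZJ L W Z C A q m) {i : ι} {g : G}
    (hp : ∀ j, ∃ k, cj g (Z j) = Z k) (hg : ∀ z ∈ ZJ, g * z * g⁻¹ * z⁻¹ ∈ Z i) :
    ∀ c ∈ ZJ, c ∈ C i → g * c = c * g := by
  classical
  have := Fintype.ofFinite ι
  have hZW : ∀ j, Z j ≤ W j := fun j => (h.blk j).ZV
  have hZC : ∀ {j k : ι}, k ≠ j → Z j ≤ C k := fun hjk => (hZW _).trans (h.WjC _ _ hjk)
  have hdis : ∀ (j : ι) {x : G}, x ∈ Z j → x ∈ C j → x = 1 := fun j x h1 h2 => by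
    have h3 : x ∈ W j ⊓ C j := mem_inf.2 ⟨hZW j h1, h2⟩
    rwa [h.dir j, mem_bot] at h3
  -- `g` commutes with `Z j`, `j ≠ i`
  have hZj : ∀ j, j ≠ i → ∀ z ∈ Z j, g * z = z * g := by
    intro j hj z hz
    obtain ⟨k, hk⟩ := hp j
    have h1 : g * z * g⁻¹ ∈ Z k := by rw [← hk]; exact ⟨z, hz, rfl⟩
    have h2 := hg z (h.Z_le j hz)
    by_cases hkj : k = j
    · subst hkj
      have h3 : g * z * g⁻¹ * z⁻¹ ∈ Z k := mul_mem h1 (inv_mem hz)
      have h4 := hdis i h2 (hZC hj.symm h3)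
      exact mul_inv_eq_iff_eq_mul.1 (mul_inv_eq_one.1 h4)
    · -- `z ∈ Z k * Z i` is in `C j`
      have h3 : z ∈ C j := by
        have e : z = (g * z * g⁻¹ * z⁻¹)⁻¹ * (g * z * g⁻¹) := by group
        rw [e]
        exact mul_mem (inv_mem (hZC hj h2)) (hZC (Ne.symm hkj) h1)
      have h4 : z = 1 := hdis j hz h3
      rw [h4]; simp
  intro c hcJ hc
  have key : ∀ s : Finset ι, i ∉ s → ∃ u ∈ ZJ, u ∈ C i ∧ g * u = u * g ∧ ∀ j ∈ s, u⁻¹ * c ∈ C j := by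
    intro s
    induction s using Finset.induction_on with
    | empty => exact fun _ => ⟨1, one_mem _, one_mem _, by simp, by simp⟩
    | insert j s hj ih =>
      intro his
      have hji : j ≠ i := fun e => his (e ▸ Finset.mem_insert_self _ _)
      obtain ⟨u, hu, hui, hgu, hus⟩ := ih fun h => his (Finset.mem_insert_of_mem h)
      obtain ⟨w, hw, d, hd, hdJ, e⟩ := h.split_ZJ j (mul_mem (inv_mem hu) hcJ)
      have e1 : (u * w)⁻¹ * c = d := by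
        calc (u * w)⁻¹ * c = w⁻¹ * (u⁻¹ * c) := by group
          _ = w⁻¹ * (w * d) := by rw [e]
          _ = d := by group
      have c1 : Commute g u := hgu
      have c2 : Commute g w := hZj j hji w hw
      refine ⟨u * w, mul_mem hu (h.Z_le j hw), mul_mem hui (hZC hji.symm hw), (c1.mul_right c2).eq, fun k hk => ?_⟩
      rcases Finset.mem_insert.1 hk with rfl | hk
      · rw [e1]; exact hd
      · have hkj : k ≠ j := fun e => hj (e ▸ hk)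
        have e2 : (u * w)⁻¹ * c = w⁻¹ * (u⁻¹ * c) := by group
        rw [e2]
        exact mul_mem (inv_mem (hZC hkj hw)) (hus k hk)
  obtain ⟨u, hu, hui, hgu, hus⟩ := key (Finset.univ.erase i) (Finset.notMem_erase _ _)
  have h1 : u⁻¹ * c = 1 := by
    refine h.C0 _ (mul_mem (inv_mem (h.ZJV hu)) (h.ZJV hcJ)) fun j => ?_
    by_cases hj : j = i
    · rw [hj]; exact mul_mem (inv_mem hui) hc
    · exact hus j (Finset.mem_erase.2 ⟨hj, Finset.mem_univ _⟩)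
  rw [← inv_mul_eq_one.1 h1]
  exact hgu

/-- For `q i > 2`: `ZJ ∩ C i ≤ C(L')` for every natural block with `Z' = Z i`. -/
theorem C_le_of_two_lt [Finite G] [Finite ι] (h : Fr B Q V ZJ L W Z C A q m) (hB : IsPGroup 2 B) {i : ι}
    (h' : NB B L' V' (Z i) (q i)) (hq : 2 < q i)
    (hp : ∀ g ∈ normalizer (B : Set G), ∀ j, ∃ k, cj g (Z j) = Z k) {c : G} (hcJ : c ∈ ZJ) (hc : c ∈ C i) :
    ∀ l ∈ L', l * c = c * l := by
  have hz : ∀ z ∈ ZJ, ∃ a ∈ Z i, ∃ d, (∀ l ∈ L', l * d = d * l) ∧ z = a * d := by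
    intro z hz
    rw [← h.zcB] at hz
    obtain ⟨a, ha, d, -, hd, e⟩ := exists_fix h'.toFB hB hz
    exact ⟨a, ha, d, hd, e⟩
  obtain ⟨a, ha, d, hd, e⟩ := hz c hcJ
  by_cases ha1 : a = 1
  · rw [e, ha1, one_mul]; exact hd
  exfalso
  -- another element
  obtain ⟨a', ha', ha1', hne⟩ : ∃ a' ∈ Z i, a' ≠ 1 ∧ a' ≠ a := by
    by_contra hcon
    push Not at hcon
    have h1 : (Z i : Set G) ⊆ {1, a} := by
      intro x hx
      by_cases hx1 : x = 1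
      · exact Or.inl hx1
      · exact Or.inr (hcon x hx hx1)
    have h2 := Set.ncard_le_ncard h1 (Set.toFinite _)
    have h3 : (Z i : Set G).ncard = Nat.card (Z i) := rfl
    rw [h3, h.cardZ i] at h2
    have h4 := Set.ncard_insert_le (1 : G) {a}
    rw [Set.ncard_singleton] at h4
    omega
  obtain ⟨x, hx, hxB, e2⟩ := h'.tor' ha ha1 ha' ha1'
  have h1 := perm_comm h (g := x) (hp x hxB) (fun z hz0 => by
    obtain ⟨a₁, ha₁, d₁, hd₁, rfl⟩ := hz z hz0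
    have e3 : x * d₁ * x⁻¹ = d₁ := by rw [hd₁ x hx]; group
    have e4 : x * (a₁ * d₁) * x⁻¹ * (a₁ * d₁)⁻¹ = (x * a₁ * x⁻¹) * (x * d₁ * x⁻¹) * d₁⁻¹ * a₁⁻¹ := by group
    rw [e4, e3]
    have e5 : x * a₁ * x⁻¹ * d₁ * d₁⁻¹ * a₁⁻¹ = (x * a₁ * x⁻¹) * a₁⁻¹ := by group
    rw [e5]
    exact mul_mem (h'.nZ hx hxB ha₁) (inv_mem ha₁)) c hcJ hc
  apply hne
  have h2 : x * c * x⁻¹ = c := by rw [h1]; group
  have h3 : x * d * x⁻¹ = d := by rw [hd x hx]; group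
  have h4 : a' * d = a * d := by
    calc a' * d = (x * a * x⁻¹) * (x * d * x⁻¹) := by rw [e2, h3]
      _ = x * (a * d) * x⁻¹ := by group
      _ = x * c * x⁻¹ := by rw [← e]
      _ = a * d := by rw [h2, ← e]
  exact mul_right_cancel h4

/-- the converse inclusion -/
theorem mem_C_of [Finite G] (h : Fr B Q V ZJ L W Z C A q m) {i : ι} (h' : NB B L' V' (Z i) (q i))
    (hle : ∀ c ∈ ZJ, c ∈ C i → ∀ l ∈ L', l * c = c * l) {z : G} (hz : z ∈ ZJ) (hzL : ∀ l ∈ L', l * z = z * l) :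
    z ∈ C i := by
  obtain ⟨w, hw, c, hc, hcJ, e⟩ := h.split_ZJ i hz
  have h1 : w = 1 := by
    refine h'.cent hw fun l hl => ?_
    have e1 : w = z * c⁻¹ := by rw [e]; group
    have c1 : Commute l z := hzL l hl
    have c2 : Commute l c := hle c hcJ hc l hl
    rw [e1]
    exact (c1.mul_right c2.inv_right).eq
  rw [e, h1, one_mul]
  exact hc

/-- `|ZJ| = q i |ZJ ∩ C i|` -/
theorem card_ZJ [Finite G] (h : Fr B Q V ZJ L W Z C A q m) (i : ι) :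
    Nat.card ZJ = q i * Nat.card ↥(ZJ ⊓ C i : Subgroup G) := by
  have h1 : ZJ = Z i ⊔ (ZJ ⊓ C i) := by
    apply le_antisymm
    · intro z hz
      obtain ⟨w, hw, c, hc, hcJ, rfl⟩ := h.split_ZJ i hz
      exact mul_mem (mem_sup_left hw) (mem_sup_right ⟨hcJ, hc⟩)
    · exact sup_le (h.Z_le i) inf_le_left
  have h2 := card_sup_comm (A := Z i) (B := ZJ ⊓ C i) fun a ha b hb => h.Vc (h.ZV i ha) (h.CV i hb.2)
  have h3 : Z i ⊓ (ZJ ⊓ C i) = ⊥ := by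
    rw [eq_bot_iff]
    rintro x ⟨hx, -, hx'⟩
    have h4 : x ∈ W i ⊓ C i := mem_inf.2 ⟨(h.blk i).ZV hx, hx'⟩
    rwa [h.dir i] at h4
  rw [← h1, h3, Subgroup.card_bot, mul_one, h.cardZ i] at h2
  exact h2

/-- **UNI+ (A)**: `[V', W i] ≠ 1`, no nontrivial element of `ZJ` is centralised by `L i` and `L'`. Then `q j = 2` for
all `j` and `|ZJ| = 4` (or there is only one block). -/
theorem caseA [Finite G] [Finite ι] (h : Fr B Q V ZJ L W Z C A q m) (hB : IsPGroup 2 B) {i : ι}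
    (h' : NB B L' V' (Z i) (q i)) (hp : ∀ g ∈ normalizer (B : Set G), ∀ j, ∃ k, cj g (Z j) = Z k)
    (hK : ∀ x ∈ ZJ, x ∈ C i → (∀ l ∈ L', l * x = x * l) → x = 1) {j : ι} (hj : j ≠ i) :
    (∀ k, q k = 2) ∧ Nat.card ZJ = 4 ∧ ∃ c ∈ ZJ, c ≠ 1 ∧ (∀ l ∈ L', l * c = c * l) ∧ ∀ k, c ∉ C k := by
  have hq1 : ∀ k, 1 < q k := fun k => (h.blk k).one
  have hq2 : q i = 2 := by
    by_contra hq
    have hq' : 2 < q i := by have := h'.one; omega
    have h1 : Z j ≤ ⊥ := by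
      intro z hz
      have hzC : z ∈ C i := h.WjC i j hj.symm ((h.blk j).ZV hz)
      exact mem_bot.2 (hK z (h.Z_le j hz) hzC (C_le_of_two_lt h hB h' hq' hp (h.Z_le j hz) hzC))
    have h2 := Subgroup.card_le_of_le h1
    rw [Subgroup.card_bot, h.cardZ j] at h2
    have := hq1 j
    omega
  have hz : ∀ z ∈ ZJ, ∃ a ∈ Z i, ∃ d ∈ ZJ, (∀ l ∈ L', l * d = d * l) ∧ z = a * d := by
    intro z hz
    rw [← h.zcB] at hz
    obtain ⟨a, ha, d, hd0, hd, e⟩ := exists_fix h'.toFB hB hz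
    rw [h.zcB] at hd0
    exact ⟨a, ha, d, hd0, hd, e⟩
  -- `|ZJ ∩ C i| ≤ 2`
  have hc2 : Nat.card ↥(ZJ ⊓ C i : Subgroup G) ≤ 2 := by
    have hex : ∀ c : ↥(ZJ ⊓ C i : Subgroup G), ∃ a : Z i, ∀ l ∈ L', l * ((a : G)⁻¹ * c) = (a : G)⁻¹ * c * l := by
      intro c
      obtain ⟨a, ha, d, -, hd, e⟩ := hz c c.2.1
      refine ⟨⟨a, ha⟩, ?_⟩
      have e1 : (a : G)⁻¹ * c = d := by rw [e]; group
      show ∀ l ∈ L', l * (a⁻¹ * (c : G)) = a⁻¹ * c * l
      rw [e1]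
      exact hd
    choose f hf using hex
    have hinj : Function.Injective f := by
      intro c d hcd
      apply Subtype.ext
      have h1 := hf c
      have h2 := hf d
      rw [hcd] at h1
      have h3 : (c : G)⁻¹ * d = 1 := by
        refine hK _ (mul_mem (inv_mem c.2.1) d.2.1) (mul_mem (inv_mem c.2.2) d.2.2) fun l hl => ?_
        have c1 : Commute l ((f d : G)⁻¹ * c) := h1 l hl
        have c2 : Commute l ((f d : G)⁻¹ * d) := h2 l hl
        have e : (c : G)⁻¹ * d = ((f d : G)⁻¹ * c)⁻¹ * ((f d : G)⁻¹ * d) := by group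
        rw [e]
        exact (c1.inv_right.mul_right c2).eq
      exact inv_mul_eq_one.1 h3
    have h1 := Nat.card_le_card_of_injective f hinj
    rw [h.cardZ i] at h1
    omega
  have hcZJ := card_ZJ h i
  have hZjle : Z j ≤ ZJ ⊓ C i := le_inf (h.Z_le j) ((h.blk j).ZV.trans (h.WjC i j hj.symm))
  have h4 : Nat.card ZJ = 4 := by
    have h1 := Subgroup.card_le_of_le hZjle
    rw [h.cardZ j] at h1
    have := hq1 j
    have h2 : Nat.card ↥(ZJ ⊓ C i : Subgroup G) = 2 := by omega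
    rw [hcZJ, h2, hq2]
  have hkk : ∀ k, k ≠ i → q k = 2 ∧ Z i = ZJ ⊓ C k := by
    intro k hki
    have h5 := card_ZJ h k
    rw [h4] at h5
    have h6 : Z i ≤ ZJ ⊓ C k := le_inf (h.Z_le i) ((h.blk i).ZV.trans (h.WjC k i hki))
    have h7 := Subgroup.card_le_of_le h6
    rw [h.cardZ i, hq2] at h7
    have h8 := hq1 k
    have h9 : q k * 2 ≤ 4 := by
      calc q k * 2 ≤ q k * Nat.card ↥(ZJ ⊓ C k : Subgroup G) := Nat.mul_le_mul_left _ h7
        _ = 4 := h5.symm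
    have h10 : q k = 2 := by omega
    refine ⟨h10, Subgroup.eq_of_le_of_card_ge h6 ?_⟩
    rw [h10] at h5
    rw [h.cardZ i, hq2]
    omega
  refine ⟨fun k => ?_, h4, ?_⟩
  · by_cases hk : k = i
    · rw [hk]; exact hq2
    · exact (hkk k hk).1
  -- an element of `ZJ ∩ C i` not centralised by `L'`
  obtain ⟨z, hzj, hz1⟩ : ∃ z ∈ Z j, z ≠ 1 := by
    by_contra hcon
    push Not at hcon
    have h1 : Z j ≤ ⊥ := fun z hz => mem_bot.2 (hcon z hz)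
    have h2 := Subgroup.card_le_of_le h1
    rw [Subgroup.card_bot, h.cardZ j] at h2
    have := hq1 j
    omega
  obtain ⟨a, ha, c, hcJ, hcL, e⟩ := hz z (h.Z_le j hzj)
  have hzCi : z ∈ C i := (hZjle hzj).2
  have hc1 : c ≠ 1 := by
    rintro rfl
    rw [mul_one] at e
    subst e
    have h5 : z ∈ W i ⊓ C i := mem_inf.2 ⟨(h.blk i).ZV ha, hzCi⟩
    rw [h.dir i, mem_bot] at h5
    exact hz1 h5
  refine ⟨c, hcJ, hc1, hcL, fun k hk => ?_⟩
  by_cases hki : k = i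
  · subst hki
    exact hc1 (hK c hcJ hk hcL)
  · -- `ZJ ∩ C k = Z i`
    have h7 : Z i = ZJ ⊓ C k := (hkk k hki).2
    have h8 : c ∈ Z i := by rw [h7]; exact ⟨hcJ, hk⟩
    exact hc1 (h'.cent h8 hcL)

/-- **UNI+** (bb OMEGA #15330). -/
theorem uniPlus [Finite G] [Finite ι] (h : Fr B Q V ZJ L W Z C A q m) (hB : IsPGroup 2 B) (hWC : WC B)
    (hp : ∀ g ∈ normalizer (B : Set G), ∀ j, ∃ k, cj g (Z j) = Z k) (hn : ∀ i : ι, ∃ j, j ≠ i)
    (h' : FB B L' V' Z' q')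
    (hK : ∀ i, NB B L' V' (Z i) (q i) → (∃ w' ∈ V', ∃ w ∈ W i, w' * w ≠ w * w') → ∀ x ∈ ZJ, x ∈ C i →
      (∀ l ∈ L', l * x = x * l) → x = 1) :
    ∃ i, q' = q i ∧ Z' = Z i ∧ NB B L' V' (Z i) (q i) ∧
      ((V' ≤ W i ⊔ ZJ ∧ (∀ z ∈ ZJ, z ∈ C i ↔ ∀ l ∈ L', l * z = z * l) ∧
          (q i = 2 → V' = W i ∧ L' ≤ L i ⊔ centralizer ((W i ⊔ ZJ : Subgroup G) : Set G))) ∨
        ((∀ k, q k = 2) ∧ Nat.card ZJ = 4 ∧ (∃ w' ∈ V', ∃ w ∈ W i, w' * w ≠ w * w') ∧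
          ∃ c ∈ ZJ, c ≠ 1 ∧ (∀ l ∈ L', l * c = c * l) ∧ ∀ k, c ∉ C k)) := by
  by_cases hA : ∃ i, ∃ w' ∈ V', ∃ w ∈ W i, w' * w ≠ w * w'
  · obtain ⟨i, w', hw', w, hw, hne⟩ := hA
    obtain ⟨hq, hc⟩ := not_comm h h'.toMd hw' hw hne
    subst hq
    obtain ⟨hZ, hN⟩ := nb_of h h' hc
    obtain ⟨j, hj⟩ := hn i
    obtain ⟨h1, h2, h3⟩ := caseA h hB hN hp (hK i hN ⟨w', hw', w, hw, hne⟩) hj
    exact ⟨i, rfl, hZ, hN, Or.inr ⟨h1, h2, ⟨w', hw', w, hw, hne⟩, h3⟩⟩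
  · push Not at hA
    have hcV : ∀ w ∈ V', ∀ v ∈ V, w * v = v * w := by
      intro w hw v hv
      rw [h.V_eq] at hv
      have h1 : (⨆ i, W i) ≤ centralizer ({w} : Set G) := iSup_le fun i u hu =>
        mem_centralizer_singleton_iff.2 (hA i w hw u hu).symm
      exact (mem_centralizer_singleton_iff.1 (h1 hv)).symm
    obtain ⟨i, hq, hc, hle⟩ := h.uni h'.toMd hcV
    subst hq
    obtain ⟨hZ, hN⟩ := nb_of h h' hc
    refine ⟨i, rfl, hZ, hN, Or.inl ?_⟩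
    have hle' : V' ≤ W i ⊔ zc B := by rw [h.zcB]; exact hle
    by_cases hq2 : q i = 2
    · have hN2 := hN
      have hN1 := nb h i
      rw [hq2] at hN1 hN2
      obtain ⟨h1, h2, h3⟩ := uni_two hWC hB hN1 hN2 hle'
      have h4 : ∀ c ∈ ZJ, c ∈ C i → ∀ l ∈ L', l * c = c * l := fun c hc hcC =>
        h2 c (by rw [h.zcB]; exact hc) ((mem_C_iff h hc).1 hcC)
      rw [h.zcB] at h3
      exact ⟨hle, fun z hz => ⟨h4 z hz, mem_C_of h hN h4 hz⟩, fun _ => ⟨h1, h3⟩⟩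
    · have hq' : 2 < q i := by have := h'.one; omega
      have h4 : ∀ c ∈ ZJ, c ∈ C i → ∀ l ∈ L', l * c = c * l := fun c hc hcC =>
        C_le_of_two_lt h hB hN hq' hp hc hcC
      exact ⟨hle, fun z hz => ⟨h4 z hz, mem_C_of h hN h4 hz⟩, fun h => absurd h hq2⟩

end frame

/-- **UNI+** in a group of characteristic 2 type. -/
theorem uniPlus' {G : Type u} [Group G] [Finite G] {ι : Type*} [Finite ι] {B Q V ZJ : Subgroup G}
    {L W Z C A : ι → Subgroup G} {q : ι → ℕ} {m : ℕ} {L' V' Z' : Subgroup G} {q' : ℕ}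
    (hG : IsCharacteristicTwoType G)
    (h : Fr B Q V ZJ L W Z C A q m) (hB : IsPGroup 2 B) (hWC : WC B)
    (hcom : ∀ g ∈ normalizer (B : Set G), ∀ w ∈ cj g V, ∀ v ∈ V, w * v = v * w) (hn : ∀ i : ι, ∃ j, j ≠ i)
    (h' : FB B L' V' Z' q') :
    ∃ i, q' = q i ∧ Z' = Z i ∧ NB B L' V' (Z i) (q i) ∧
      ((V' ≤ W i ⊔ ZJ ∧ (∀ z ∈ ZJ, z ∈ C i ↔ ∀ l ∈ L', l * z = z * l) ∧
          (q i = 2 → V' = W i ∧ L' ≤ L i ⊔ centralizer ((W i ⊔ ZJ : Subgroup G) : Set G))) ∨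
        ((∀ k, q k = 2) ∧ Nat.card ZJ = 4 ∧ (∃ w' ∈ V', ∃ w ∈ W i, w' * w ≠ w * w') ∧
          ∃ c ∈ ZJ, c ≠ 1 ∧ (∀ l ∈ L', l * c = c * l) ∧ ∀ k, c ∉ C k)) := by
  refine uniPlus h hB hWC (fun g hg j => ?_) hn h' fun i hN hne x hx hxC hxL => ?_
  · obtain ⟨k, -, hk, -⟩ := (h.norm_of hg (hcom g hg)).2 j
    exact ⟨k, hk⟩
  · by_contra hx1
    obtain ⟨w', hw', w, hw, hne⟩ := hne
    exact hne (NB.commute_of_fix hG hWC hB hN (nb h i) (elem_sq h.el x (h.ZJV hx)) hx1 hxL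
      ((mem_C_iff h hx).1 hxC) w' hw' w hw)

/-! ### (2') -/

section mtl

variable {ι : Type*} {B Q V ZJ : Subgroup G} {L W Z C A : ι → Subgroup G} {q : ι → ℕ} {m : ℕ}

/-- **(2')**: no noncommuting pair `W i`, `(W j)^g` with `W i ≤ B^g`, `(W j)^g ≤ B`. -/
theorem two' [Finite G] (h : Fr B Q V ZJ L W Z C A q m) [Nonempty ι]
    (hW : ∀ i, V ≤ o2 (normalizer (Z i : Set G)) ∧ o2 (normalizer (Z i : Set G)) ≤ B)
    (hno : ∀ g : G, cj g V ≤ normalizer (V : Set G) → V ≤ normalizer ((cj g V : Subgroup G) : Set G) →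
      ∀ w ∈ cj g V, ∀ v ∈ V, w * v = v * w)
    {g : G} {i j : ι} (h1 : cj g (W j) ≤ B) (h2 : W i ≤ cj g B) :
    ∀ w' ∈ cj g (W j), ∀ w ∈ W i, w' * w = w * w' := by
  by_contra hcon
  push Not at hcon
  obtain ⟨w', hw', w, hw, hne⟩ := hcon
  have hBV : B ≤ normalizer (V : Set G) := by
    obtain ⟨i⟩ := ‹Nonempty ι›
    intro b hb
    have h3 := h.LV i b ((h.blk i).BL hb)
    have h4 := h.LV i b⁻¹ ((h.blk i).BL (inv_mem hb))
    rw [mem_normalizer_iff]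
    intro v
    refine ⟨h3 v, fun hv => ?_⟩
    have h5 := h4 _ hv
    have e : b⁻¹ * (b * v * b⁻¹) * b⁻¹⁻¹ = v := by group
    rwa [e] at h5
  -- `Z i = (Z j)^g`
  have hZ : Z i = cj g (Z j) := by
    refine le_antisymm ?_ ?_
    rotate_left
    · intro z hz
      have M := (h.blk j).toMd.conj g
      obtain ⟨v, hv, e⟩ := exists_eq_comm M (by rw [card_cj]; exact h.cardZ j) (h2 hw)
        (fun h3 => hne (h3 w' hw').symm) hz
      have h3 := (h.blk i).com v (h1 hv) w hw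
      rw [e]
      have e2 : w * v * w⁻¹ * v⁻¹ = (v * w * v⁻¹ * w⁻¹)⁻¹ := by group
      rw [e2]
      exact inv_mem h3
    intro z hz
    obtain ⟨v, hv, e⟩ := exists_eq_comm (h.blk i).toMd (h.cardZ i) (h1 hw') (fun h3 => hne (h3 w hw)) hz
    have h3 := ((h.blk j).toMd.conj g).com v (h2 hv) w' hw'
    rw [e]
    have e2 : w' * v * w'⁻¹ * v⁻¹ = (v * w' * v⁻¹ * w'⁻¹)⁻¹ := by group
    rw [e2]
    exact inv_mem h3
  have ho : cj g (o2 (normalizer (Z j : Set G))) = o2 (normalizer (Z i : Set G)) := by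
    rw [← pCore_cj, cj_normalizer, ← hZ]
  have h3 : cj g V ≤ B := by
    refine le_trans (cj_mono g (hW j).1) ?_
    rw [ho]
    exact (hW i).2
  have h4 : V ≤ cj g B := by
    refine (hW i).1.trans ?_
    rw [← ho]
    exact cj_mono g (hW j).2
  have h5 := hno g (h3.trans hBV) (by
    refine h4.trans ?_
    have := cj_mono g hBV
    rwa [cj_normalizer] at this) w' (cj_mono g (h.WV j) hw') w (h.WV i hw)
  exact hne h5

end mtl

end Cfsg.Agent.Omega.OM.Var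

end

section


/-!
# GI (0) over the Baumann group, blocks over different fields

`Bfr S Q V L W Z C A q m` : the frame `Var.Fr` over `B = bau S`, `Z_J = zj S = ∏ Z i`, at least two blocks, `V^g`
commutes with `V` for `g ∈ N_G(B)`, not (all `q i = 2` and `|Z_J| = 4`).
`Y i = C_G(Z j : j ≠ i)`, `E = ⟨Y i : i⟩`.

* `Bfr.blk` : a block `L'` over `B` has `Z' = Z i`, `q' = q i`, `V' ≤ W i Z_J` for one `i` and `C_{Z_J}(L') = Z_J ∩ C i`, so
  `L' ≤ Y i`;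
* `Bfr.perm` : `N_G(Z_J)` permutes the `Z i` (with equal `q i`); `Bfr.norm_E` : it normalises `E`;
* `exists_blk` : a minimal parabolic `H` over `T ≥ B` which moves `Ω₁(Z(T))`, `J(T) ≰ O₂(H)`, is `⟨L', T⟩`;
* `Bfr.par` : a minimal parabolic over a 2-group `T ≥ B` moving `Ω₁(Z(T))` lies in `N_G(Z_J)` or in some `⟨Y i, T⟩`;
* `Bfr.loc` : if `E` normalises a 2-group `≠ 1` then `⟨E, N_G(Z_J)⟩` normalises `O₂(E) ≠ 1`, `O₂(E) ≤ B`;
* `Bfr.gen` : `M ≥ E, N_G(B)`, `H` of characteristic 2 with Sylow group `T ≥ B`: `H` is generated by `H ∩ M` and the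
  minimal parabolics `Y` over `T` with `J(T) ≰ O₂(Y)`, `[Ω₁(Z(T)), Y] = 1`, `O₂(Y) ≰ B`;
* `Bfr.parS_le` : `⟨P*(S)⟩ ≤ ⟨E, N_G(Z_J)⟩`;  `Bfr.nonLoc` : if `C_G(Z) ≤ N_G(Z_J)` and `⟨P*(S), C_G(Z)⟩` is nonlocal then
  `E` normalises no 2-group `≠ 1`.
-/

set_option autoImplicit false

namespace Cfsg.Agent.Omega.OM.Var

open Subgroup Cfsg Cfsg.Agent.ZN.ChoiceBase Cfsg.Agent.ZN.ChoiceSit
open Cfsg.Agent.ZN (jj zj bau zc zl o2)
open Cfsg.Agent.MinSimple.MinParabolic (IsMinPar)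
open Cfsg.Agent.Omega.SQ1.Bau (mem_sup_comm)
open Cfsg.Agent.Omega.OM.Uni (Md FB)
open Cfsg.Agent.Omega.OM.UniPlus (NB)
open Cfsg.Agent.Omega.OM.BlkGen (FBlk)
open Cfsg.Agent.Omega.LemmaK (WeakNormal)
open Cfsg.Agent.Omega.MinPar (IsParS NonLoc)
open Cfsg.Agent.Omega.LemmaK.Main (le_normalizer_bau)
open scoped Pointwise commutatorElement

universe u

variable {G : Type u} [Group G]

/-! ### `Z_J ∩ C i = ∏_{j ≠ i} Z j` -/

section frame

variable {ι : Type*} {B Q V ZJ : Subgroup G} {L W Z C A : ι → Subgroup G} {q : ι → ℕ} {m : ℕ}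

theorem Fr.Z_le_C (h : Fr B Q V ZJ L W Z C A q m) {i j : ι} (hij : j ≠ i) : Z j ≤ C i :=
  (h.blk j).ZV.trans (h.WjC i j hij.symm)

theorem Fr.Z_inf_C (h : Fr B Q V ZJ L W Z C A q m) {i : ι} {x : G} (h1 : x ∈ Z i) (h2 : x ∈ C i) : x = 1 := by
  have h3 : x ∈ W i ⊓ C i := mem_inf.2 ⟨(h.blk i).ZV h1, h2⟩
  rwa [h.dir i, mem_bot] at h3

theorem Fr.exists_ne (h : Fr B Q V ZJ L W Z C A q m) (i : ι) : ∃ z ∈ Z i, z ≠ 1 := by
  by_contra hcon
  push Not at hcon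
  have h1 : Z i ≤ ⊥ := fun z hz => mem_bot.2 (hcon z hz)
  have h2 := h.cardZ i
  rw [le_bot_iff.1 h1, Subgroup.card_bot] at h2
  have := (h.blk i).one
  omega

theorem Fr.Z_inj (h : Fr B Q V ZJ L W Z C A q m) {i j : ι} (e : Z i = Z j) : i = j := by
  by_contra hne
  obtain ⟨z, hz, hz1⟩ := h.exists_ne i
  exact hz1 (h.Z_inf_C hz (h.Z_le_C (Ne.symm hne) (e ▸ hz)))

/-- `Z_J ∩ C i = ∏_{j ≠ i} Z j` -/
theorem Fr.inf_C (h : Fr B Q V ZJ L W Z C A q m) [Finite ι] (i : ι) :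
    ZJ ⊓ C i = ⨆ j : {j : ι // j ≠ i}, Z j := by
  classical
  have := Fintype.ofFinite ι
  refine le_antisymm ?_ (iSup_le fun j => le_inf (h.Z_le j) (h.Z_le_C j.2))
  intro c hc0
  obtain ⟨hcJ, hc⟩ := mem_inf.1 hc0
  have hle : (⨆ j : {j : ι // j ≠ i}, Z j) ≤ ZJ := iSup_le fun j => h.Z_le j
  have hleC : (⨆ j : {j : ι // j ≠ i}, Z j) ≤ C i := iSup_le fun j => h.Z_le_C j.2
  have key : ∀ s : Finset ι, i ∉ s → ∃ u ∈ ⨆ j : {j : ι // j ≠ i}, Z j, ∀ j ∈ s, u⁻¹ * c ∈ C j := by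
    intro s
    induction s using Finset.induction_on with
    | empty => exact fun _ => ⟨1, one_mem _, by simp⟩
    | insert j s hj ih =>
      intro his
      have hji : j ≠ i := fun e => his (e ▸ Finset.mem_insert_self _ _)
      obtain ⟨u, hu, hus⟩ := ih fun h => his (Finset.mem_insert_of_mem h)
      obtain ⟨w, hw, d, hd, hdJ, e⟩ := h.split_ZJ j (mul_mem (inv_mem (hle hu)) hcJ)
      refine ⟨u * w, mul_mem hu (mem_iSup_of_mem (⟨j, hji⟩ : {j : ι // j ≠ i}) hw), fun k hk => ?_⟩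
      rcases Finset.mem_insert.1 hk with rfl | hk
      · have e1 : (u * w)⁻¹ * c = d := by
          calc (u * w)⁻¹ * c = w⁻¹ * (u⁻¹ * c) := by group
            _ = w⁻¹ * (w * d) := by rw [e]
            _ = d := by group
        rw [e1]; exact hd
      · have hkj : k ≠ j := fun e => hj (e ▸ hk)
        have e2 : (u * w)⁻¹ * c = w⁻¹ * (u⁻¹ * c) := by group
        rw [e2]
        exact mul_mem (inv_mem (h.Z_le_C hkj.symm hw)) (hus k hk)
  obtain ⟨u, hu, hus⟩ := key (Finset.univ.erase i) (Finset.notMem_erase _ _)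
  have h1 : u⁻¹ * c = 1 := by
    refine h.C0 _ (mul_mem (inv_mem (h.ZJV (hle hu))) (h.ZJV hcJ)) fun j => ?_
    by_cases hj : j = i
    · rw [hj]; exact mul_mem (inv_mem (hleC hu)) hc
    · exact hus j (Finset.mem_erase.2 ⟨hj, Finset.mem_univ _⟩)
  rw [← inv_mul_eq_one.1 h1]
  exact hu

/-- `Z_J = ∏ Z i` -/
theorem Fr.ZJ_eq (h : Fr B Q V ZJ L W Z C A q m) [Finite ι] : ZJ = ⨆ i, Z i := by
  refine le_antisymm (fun z hz => ?_) (iSup_le h.Z_le)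
  by_cases hι : Nonempty ι
  · obtain ⟨i⟩ := hι
    obtain ⟨w, hw, c, hc, hcJ, rfl⟩ := h.split_ZJ i hz
    refine mul_mem (mem_iSup_of_mem i hw) ?_
    have h1 : c ∈ ZJ ⊓ C i := mem_inf.2 ⟨hcJ, hc⟩
    rw [h.inf_C i] at h1
    exact (iSup_le fun j => le_iSup Z j.1 : (⨆ j : {j : ι // j ≠ i}, Z j) ≤ ⨆ i, Z i) h1
  · have : z = 1 := h.C0 z (h.ZJV hz) fun i => absurd ⟨i⟩ hι
    rw [this]; exact one_mem _

end frame

/-! ### The groups `Y i`, `E` -/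

/-- `Y i = C_G(Z j : j ≠ i)` -/
def YY {ι : Type*} (Z : ι → Subgroup G) (i : ι) : Subgroup G :=
  centralizer ((⨆ j : {j : ι // j ≠ i}, Z j : Subgroup G) : Set G)

/-- `E = ⟨Y i : i⟩` -/
def EE {ι : Type*} (Z : ι → Subgroup G) : Subgroup G := ⨆ i, YY Z i

theorem YY_le_EE {ι : Type*} (Z : ι → Subgroup G) (i : ι) : YY Z i ≤ EE Z := le_iSup (YY Z) i

/-- The frame over the Baumann group. -/
structure Bfr {ι : Type*} (S : Sylow 2 G) (Q V : Subgroup G) (L W Z C A : ι → Subgroup G) (q : ι → ℕ) (m : ℕ) :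
    Prop where
  char2 : IsCharacteristicTwoType G
  fr : Fr (bau (S : Subgroup G)) Q V (zj (S : Subgroup G)) L W Z C A q m
  com : ∀ g ∈ normalizer (bau (S : Subgroup G) : Set G), ∀ w ∈ cj g V, ∀ v ∈ V, w * v = v * w
  two : ∀ i : ι, ∃ j, j ≠ i
  four : ¬ ((∀ k, q k = 2) ∧ Nat.card (zj (S : Subgroup G)) = 4)

/-- A minimal parabolic `H` over `T ≥ bau S` which moves `Ω₁(Z(T))`, `J(T) ≰ O₂(H)`, is generated by `T` and a block. -/
theorem exists_blk [Finite G] {T H : Subgroup G} (hFF : FFThm.Stmt.{u}) (S : Sylow 2 G) (hT : Syl T H)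
    (hB : bau (S : Subgroup G) ≤ T) (hP : IsMinPar T H) (hc : H ⊓ centralizer (o2 H : Set G) ≤ o2 H)
    (hJ : ¬ jj T ≤ o2 H) (hZ : ¬ H ≤ centralizer (zc T : Set G)) :
    ∃ L' V', FBlk (S : Subgroup G) L' V' ∧ L' ≤ H ∧ H ≤ L' ⊔ T := by
  have hbau : bau T = bau (S : Subgroup G) := LemmaK.Main.bau_eq S hT.2.1 hB
  have hw : WeakNormal 2 (bau T) := by
    rw [hbau]
    exact fun R hR hBR => le_normalizer_bau S hR hBR
  obtain ⟨A, hA, hoff⟩ := BlkGen.exists_off hT hP hc hJ hZ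
  obtain ⟨hno, hcon⟩ := hFF G T H hT hP hc ⟨A, hA.2.1.trans hT.1, hoff⟩
  have hm := SQ1.FFOne.minH_of hT hP hc
  rcases hcon with ⟨F, _, _, _, k, hk, ⟨M⟩⟩ | ⟨k, m, hk, hm2, ⟨M⟩⟩
  · have : Nonempty (Fin k) := ⟨⟨0, hk⟩⟩
    set N := (SQ1.FFOne.natKB_of hT hc hJ hk M).toFFK hm with hN
    obtain ⟨E, hE⟩ := N.toInK hm
    obtain ⟨L, hL⟩ := hE.exists_blk ⟨0, hk⟩
    have hpb := FBK.pb hm N hE hw hL
    have hF : FBlk (S : Subgroup G) L ⁅N.N ⟨0, hk⟩, L⁆ := by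
      exact ⟨⟨_, _, by rw [← hbau]; exact hpb.fb⟩, by rw [← hbau]; exact hpb.block hw⟩
    exact ⟨_, _, hF, hL.LH hE, hL.sup_T hE le_sup_right le_sup_left⟩
  · have h := syT_of hm hJ M hk (by omega) SQ1.FFOf.cv_le SQ1.FFOf.cv_norm
    obtain ⟨ι, J, X, Y, t, r, c⟩ := h.exists_ch
    have hin := c.main h Cfsg.Agent.Omega.SQ1.SymCyc.exists_pow
    obtain ⟨j, x, y, hTr⟩ := h.exists_tr
    obtain ⟨i, -⟩ := c.ex j x y hTr
    obtain ⟨L, hL⟩ := hin.exists_blk i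
    have hpb := FBS.pb hin hw hL
    have hF : FBlk (S : Subgroup G) L ⁅h.NN (J i) 0 (X i) (Y i), L⁆ := by
      exact ⟨⟨_, _, by rw [← hbau]; exact hpb.fb⟩, by rw [← hbau]; exact hpb.block hw⟩
    exact ⟨_, _, hF, hL.LP.trans (hin.PP_le i), hL.sup_T hin le_sup_right le_sup_left⟩

namespace Bfr

variable {ι : Type*} {S : Sylow 2 G} {Q V : Subgroup G} {L W Z C A : ι → Subgroup G} {q : ι → ℕ} {m : ℕ}
  (h : Bfr S Q V L W Z C A q m)
include h

/-- `C_G(Z_J) ≤ Y i` -/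
theorem cent_le (i : ι) : centralizer (zj (S : Subgroup G) : Set G) ≤ YY Z i := by
  refine centralizer_le ?_
  exact_mod_cast (iSup_le fun j => h.fr.Z_le j : (⨆ j : {j : ι // j ≠ i}, Z j) ≤ zj (S : Subgroup G))

variable [Finite G]

theorem bau_two : IsPGroup 2 (bau (S : Subgroup G)) := S.isPGroup'.to_le (bau_le _)

variable [Finite ι]

/-- **UNI+** over the frame. -/
theorem blk {L' V' Z' : Subgroup G} {q' : ℕ} (h' : FB (bau (S : Subgroup G)) L' V' Z' q') :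
    ∃ i, q' = q i ∧ Z' = Z i ∧ NB (bau (S : Subgroup G)) L' V' (Z i) (q i) ∧ V' ≤ W i ⊔ zj (S : Subgroup G) ∧
      L' ≤ YY Z i ∧ (∀ z ∈ zj (S : Subgroup G), z ∈ C i ↔ ∀ l ∈ L', l * z = z * l) := by
  obtain ⟨i, h1, h2, h3, h4⟩ := uniPlus' h.char2 h.fr h.bau_two (UniPlus.wc_bau S) h.com h.two h'
  rcases h4 with ⟨h4, h5, -⟩ | ⟨h4, h5, -⟩
  · refine ⟨i, h1, h2, h3, h4, fun l hl => ?_, h5⟩
    rw [YY, mem_centralizer_iff, ← h.fr.inf_C i]
    intro z hz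
    obtain ⟨hz1, hz2⟩ := mem_inf.1 hz
    exact ((h5 z hz1).1 hz2 l hl).symm
  · exact absurd ⟨h4, h5⟩ h.four

/-- the blocks `L i` -/
theorem L_le (i : ι) : L i ≤ YY Z i := by
  intro l hl
  rw [YY, mem_centralizer_iff, ← h.fr.inf_C i]
  intro z hz
  obtain ⟨hz1, hz2⟩ := mem_inf.1 hz
  exact (h.fr.LC i l hl z hz1 hz2).symm

/-- `N_G(Z_J)` permutes the `Z i`. -/
theorem perm {g : G} (hg : g ∈ normalizer (zj (S : Subgroup G) : Set G)) (i : ι) :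
    ∃ j, q i = q j ∧ cj g (Z i) = Z j := by
  obtain ⟨d, hd, n, hn, rfl⟩ := Dich.exists_frattini S hg
  obtain ⟨j, h1, h2, -⟩ := (h.fr.norm_of hn (h.com n hn)).2 i
  refine ⟨j, h1, ?_⟩
  rw [← cj_cj, h2]
  have h3 : d ∈ centralizer (Z j : Set G) := centralizer_le (by exact_mod_cast h.fr.Z_le j) hd
  exact mem_normalizer_iff_cj.1 (centralizer_le_normalizer _ h3)

theorem cj_YY {g : G} (hg : g ∈ normalizer (zj (S : Subgroup G) : Set G)) {i j : ι} (hij : cj g (Z i) = Z j) :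
    cj g (YY Z i) = YY Z j := by
  have key : ∀ {g : G}, g ∈ normalizer (zj (S : Subgroup G) : Set G) → ∀ {i j : ι}, cj g (Z i) = Z j →
      cj g (⨆ k : {k : ι // k ≠ i}, Z k) ≤ ⨆ k : {k : ι // k ≠ j}, Z k := by
    intro g hg i j hij
    have e : cj g (⨆ k : {k : ι // k ≠ i}, Z k) = ⨆ k : {k : ι // k ≠ i}, cj g (Z k) := Subgroup.map_iSup _ _
    rw [e]
    refine iSup_le fun k => ?_
    obtain ⟨l, -, hl⟩ := h.perm hg k
    rw [hl]
    refine le_iSup (fun k : {k : ι // k ≠ j} => Z k) ⟨l, fun hlj => k.2 ?_⟩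
    subst hlj
    apply h.fr.Z_inj
    have h1 := congrArg (cj g⁻¹) (hl.trans hij.symm)
    rwa [cj_inv_cj, cj_inv_cj] at h1
  have h1 : cj g (⨆ k : {k : ι // k ≠ i}, Z k) = ⨆ k : {k : ι // k ≠ j}, Z k := by
    refine le_antisymm (key hg hij) ?_
    have h2 := key (inv_mem hg) (i := j) (j := i) (by rw [← hij, cj_inv_cj])
    have h3 := cj_mono g h2
    rwa [cj_cj, mul_inv_cancel, cj_one] at h3
  rw [YY, YY, cj_centralizer, h1]

/-- `N_G(Z_J)` normalises `E`. -/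
theorem norm_E : normalizer (zj (S : Subgroup G) : Set G) ≤ normalizer (EE Z : Set G) := by
  intro g hg
  refine mem_normalizer_of_cj_le ?_
  have e : cj g (EE Z) = ⨆ i, cj g (YY Z i) := Subgroup.map_iSup _ _
  rw [e]
  refine iSup_le fun i => ?_
  obtain ⟨j, -, hj⟩ := h.perm hg i
  rw [h.cj_YY hg hj]
  exact YY_le_EE Z j

/-- an FF-block lies in some `Y i` -/
theorem fblk_le {L' V' : Subgroup G} (h' : FBlk (S : Subgroup G) L' V') : ∃ i, L' ≤ YY Z i ∧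
    ∀ z ∈ Z i, (∀ l ∈ L', l * z = z * l) → z = 1 := by
  obtain ⟨⟨Z', q', h1⟩, -⟩ := h'
  obtain ⟨i, h2, h3, h4, h5, h6, h7⟩ := h.blk h1
  exact ⟨i, h6, fun z hz hc => h4.cent hz hc⟩

theorem K0_le [hne : Nonempty ι] : Dich.K0 (S : Subgroup G) (FBlk (S : Subgroup G)) ≤ EE Z := by
  obtain ⟨i⟩ := hne
  refine sup_le ((h.cent_le i).trans (YY_le_EE Z i)) (iSup_le fun x => ?_)
  obtain ⟨j, hj, -⟩ := h.fblk_le x.2
  exact hj.trans (YY_le_EE Z j)

/-- A minimal parabolic over a 2-group `T ≥ B` which moves `Ω₁(Z(T))` lies in `N_G(Z_J)` or is generated by `T` and a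
block `L' ≤ Y i` which moves every nontrivial element of `Z i`. -/
theorem par (hFF : FFThm.Stmt.{u}) {T R : Subgroup G} (hT : Syl T R) (hB : bau (S : Subgroup G) ≤ T)
    (hP : IsMinPar T R) (hc : R ⊓ centralizer (o2 R : Set G) ≤ o2 R) (hZ : ¬ R ≤ centralizer (zc T : Set G)) :
    R ≤ normalizer (zj (S : Subgroup G) : Set G) ∨ ∃ i L', R ≤ L' ⊔ T ∧ L' ≤ R ∧ L' ≤ YY Z i ∧
      ∀ z ∈ Z i, (∀ l ∈ L', l * z = z * l) → z = 1 := by
  by_cases hJ : jj T ≤ o2 R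
  · left
    have h2 : o2 R ≤ T := o2_le_syl hT
    have h3 : jj (o2 R) = jj T := jj_eq_of_jj_le hJ h2
    have h4 : R ≤ normalizer (jj (S : Subgroup G) : Set G) := by
      rw [← LemmaK.Main.jj_eq S hT.2.1 hB, ← h3]
      exact (le_normalizer_o2 R).trans (normalizer_le_jj _)
    refine h4.trans ?_
    have h7 := normalizer_le_of_cj (F := zj) zj_cj (jj (S : Subgroup G))
    have h8 : zj (jj (S : Subgroup G)) = zj (S : Subgroup G) := zj_congr (jj_eq_of_jj_le le_rfl (jj_le _))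
    rwa [h8] at h7
  · right
    obtain ⟨L', V', h1, h2, h3⟩ := exists_blk hFF S hT hB hP hc hJ hZ
    obtain ⟨i, h4, h5⟩ := h.fblk_le h1
    exact ⟨i, L', h3, h2, h4, h5⟩

/-- the same for the product -/
theorem par_le (hFF : FFThm.Stmt.{u}) {T R : Subgroup G} (hT : Syl T R) (hB : bau (S : Subgroup G) ≤ T)
    (hP : IsMinPar T R) (hc : R ⊓ centralizer (o2 R : Set G) ≤ o2 R) (hZ : ¬ R ≤ centralizer (zc T : Set G)) :
    R ≤ EE Z ⊔ normalizer (zj (S : Subgroup G) : Set G) := by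
  have hTN : T ≤ normalizer (zj (S : Subgroup G) : Set G) :=
    (Dich.two_le S hT.2.1 hB).trans (Dich.norm_zj _)
  rcases h.par hFF hT hB hP hc hZ with h1 | ⟨i, L', h1, -, h2, -⟩
  · exact h1.trans le_sup_right
  · exact h1.trans (sup_le ((h2.trans (YY_le_EE Z i)).trans le_sup_left) (hTN.trans le_sup_right))

/-- a 2-group normalised by all `L i` centralises `Z_J` -/
theorem le_cent {U : Subgroup G} (hU : IsPGroup 2 U) (hL : ∀ i, L i ≤ normalizer (U : Set G)) :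
    U ≤ centralizer (zj (S : Subgroup G) : Set G) := by
  have hf : Fact (Nat.Prime 2) := ⟨Nat.prime_two⟩
  rw [h.fr.ZJ_eq]
  refine le_centralizer_iff.1 (iSup_le fun i => ?_)
  have h1 := (nb h.fr i).block (UniPlus.wc_bau S) h.bau_two
  exact ((h.fr.blk i).ZV).trans (le_centralizer_iff.1 (h1.le_centralizer hU (hL i)))

/-- If `E` normalises a 2-group `≠ 1` then `⟨E, N_G(Z_J)⟩` normalises `O₂(E) ≠ 1`, and `O₂(E) ≤ B`. -/
theorem loc [hne : Nonempty ι] {U : Subgroup G} (hU : IsPGroup 2 U) (hU1 : U ≠ ⊥)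
    (hE : EE Z ≤ normalizer (U : Set G)) :
    o2 (EE Z) ≠ ⊥ ∧ o2 (EE Z) ≤ bau (S : Subgroup G) ∧
      EE Z ⊔ normalizer (zj (S : Subgroup G) : Set G) ≤ normalizer (o2 (EE Z) : Set G) := by
  obtain ⟨i⟩ := hne
  have hDE : centralizer (zj (S : Subgroup G) : Set G) ≤ EE Z := (h.cent_le i).trans (YY_le_EE Z i)
  have hLE : ∀ i, L i ≤ EE Z := fun i => (h.L_le i).trans (YY_le_EE Z i)
  have h1 : U ≤ EE Z := (h.le_cent hU fun i => (hLE i).trans hE).trans hDE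
  have h2 : U ≤ o2 (EE Z) := le_o2 hU h1 hE
  have h3 : o2 (EE Z) ≤ centralizer (zj (S : Subgroup G) : Set G) :=
    h.le_cent (isPGroup_o2 _) fun i => (hLE i).trans (le_normalizer_o2 _)
  refine ⟨fun h => hU1 (by rw [eq_bot_iff, ← h]; exact h2), ?_, sup_le (le_normalizer_o2 _) ?_⟩
  · have h4 : o2 (EE Z) ≤ o2 (centralizer (zj (S : Subgroup G) : Set G)) :=
      le_o2 (isPGroup_o2 _) h3 (hDE.trans (le_normalizer_o2 _))
    exact h4.trans (o2_le_syl (Dich.syl S))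
  · intro n hn
    rw [mem_normalizer_iff_cj, ← pCore_cj, mem_normalizer_iff_cj.1 (h.norm_E hn)]

/-- **(O1+)** for `M ≥ E, N_G(B)`. -/
theorem gen [Nonempty ι] (hFF : FFThm.Stmt.{u}) (hA : FFBr.AStmt.{u}) {M T H : Subgroup G} (hE : EE Z ≤ M)
    (hN : normalizer (bau (S : Subgroup G) : Set G) ≤ M) (hT : Syl T H) (hB : bau (S : Subgroup G) ≤ T)
    (hc : H ⊓ centralizer (o2 H : Set G) ≤ o2 H) :
    H ≤ (H ⊓ M) ⊔ ⨆ Y : {Y : Subgroup G // IsMinPar T Y ∧ Y ≤ H ∧ ¬ jj T ≤ o2 Y ∧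
      Y ≤ centralizer (zc T : Set G) ∧ ¬ o2 Y ≤ bau (S : Subgroup G)}, (Y : Subgroup G) :=
  BlkGen.gen hFF hA (h.K0_le.trans hE) hN hT hB hc

/-- `⟨P*(S)⟩ ≤ ⟨E, N_G(Z_J)⟩` -/
theorem parS_le (hFF : FFThm.Stmt.{u}) :
    sSup {P : Subgroup G | IsParS (S : Subgroup G) P} ≤ EE Z ⊔ normalizer (zj (S : Subgroup G) : Set G) := by
  refine sSup_le fun P hP => ?_
  have hT : Syl (S : Subgroup G) P := ⟨hP.le, S.isPGroup', fun Q _ h2 h3 => S.3 h2 h3⟩
  exact h.par_le hFF hT (bau_le _) hP.toIsMinPar (hP.isLoc.char2 S h.char2)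
    fun hc => hP.not_zc (hc.trans (centralizer_le_normalizer _))

/-- **GI (0)**: `C_G(Z) ≤ N_G(Z_J)` and `⟨P*(S), C_G(Z)⟩` nonlocal: `E` is nonlocal. -/
theorem nonLoc [Nonempty ι] (hFF : FFThm.Stmt.{u})
    (hC : centralizer (zc (S : Subgroup G) : Set G) ≤ normalizer (zj (S : Subgroup G) : Set G))
    (hnl : NonLoc (sSup {P : Subgroup G | IsParS (S : Subgroup G) P}) (centralizer (zc (S : Subgroup G) : Set G)))
    {U : Subgroup G} (hU : IsPGroup 2 U) (hE : EE Z ≤ normalizer (U : Set G)) : U = ⊥ := by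
  by_contra hU1
  obtain ⟨h1, -, h2⟩ := h.loc hU hU1 hE
  exact h1 (hnl _ (isPGroup_o2 _) ((h.parS_le hFF).trans h2) (hC.trans (le_sup_right.trans h2)))

end Bfr

end Cfsg.Agent.Omega.OM.Var

end
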