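import Cfsg.Agent.Mrg.Omega.NO3S.EMany.Four


/-!
# Two natural blocks over `B` with the same module have the same spread, `q ≥ 8`

`L₁`, `L₂` natural blocks over `B` with the same `V`, `Z`, coordinates `e : V → F × F` from `L₁` (`B` acts as
`(x + l y, y)`; `{(0, y)}` is a member of the spread of `L₁`).

* `field_lemma` : `f` additive, `f Y = a f(a Y) + μ_a Y` for all `a ≠ 0` ⟹ `f` linear (`|F| > 4`);
* `lin` : a natural block which preserves the standard spread of `F × F` acts as `SL₂(F)`;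
* `spread_eq` : every `Z^y`, `y ∈ L₂`, is a `Z^x`, `x ∈ L₁`, if the elements of `N(B)` which are trivial on `Z` and on
  `V / Z` act as elements of `B` (`tri_of_syl` : if `B` is Sylow in a group containing them).
-/

set_option autoImplicit false
set_option linter.unusedVariables false
set_option linter.unusedSectionVars false

namespace Cfsg.Agent.Omega.OM.Var.Spread

open Subgroup Cfsg Cfsg.Agent.ZN.ChoiceBase
open Cfsg.Agent.ZN (jj zj bau zc zl o2)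
open Cfsg.Agent.Omega.OM.Uni (FB)
open Cfsg.Agent.Omega.OM.UniPlus (NB)
open Cfsg.Agent.Omega.SQ1.Bau (mem_sup_comm elem_sq)
open Cfsg.Agent.Omega.NO3S.EMany.AltQ (Rt sup_eq exists_ne trL)
open Cfsg.Agent.Omega.NO3S.EMany.FourDQ (ti trN)

universe u

/-! ### The field -/

section field

variable {F : Type} [Field F] [Finite F]

theorem exists_good (h4 : 4 < Nat.card F) : ∃ Y : F, Y ≠ 0 ∧ Y + 1 ≠ 0 ∧ Y * Y + Y + 1 ≠ 0 := by
  classical
  by_contra hcon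
  push Not at hcon
  have := Fintype.ofFinite F
  have h1 : ∀ Y : F, Y = 0 ∨ Y = -1 ∨ Y * Y + Y + 1 = 0 := by
    intro Y
    by_cases h0 : Y = 0
    · exact Or.inl h0
    by_cases h01 : Y + 1 = 0
    · exact Or.inr (Or.inl (eq_neg_of_add_eq_zero_left h01))
    · exact Or.inr (Or.inr (hcon Y h0 h01))
  -- the roots
  have h2 : ∃ r s : F, ∀ Y : F, Y * Y + Y + 1 = 0 → Y = r ∨ Y = s := by
    by_cases h : ∃ r : F, r * r + r + 1 = 0
    · obtain ⟨r, hr⟩ := h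
      refine ⟨r, -1 - r, fun Y hY => ?_⟩
      have h3 : (Y - r) * (Y + r + 1) = 0 := by
        have : (Y - r) * (Y + r + 1) = (Y * Y + Y + 1) - (r * r + r + 1) := by ring
        rw [this, hY, hr, sub_zero]
      rcases mul_eq_zero.1 h3 with h | h
      · exact Or.inl (sub_eq_zero.1 h)
      · right
        have : Y = (Y + r + 1) + (-1 - r) := by ring
        rw [this, h, zero_add]
    · push Not at h
      exact ⟨0, 0, fun Y hY => absurd hY (h Y)⟩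
  obtain ⟨r, s, hrs⟩ := h2
  have h3 : (Finset.univ : Finset F) ⊆ {0, -1, r, s} := by
    intro Y _
    simp only [Finset.mem_insert, Finset.mem_singleton]
    rcases h1 Y with h | h | h
    · exact Or.inl h
    · exact Or.inr (Or.inl h)
    · rcases hrs Y h with h | h
      · exact Or.inr (Or.inr (Or.inl h))
      · exact Or.inr (Or.inr (Or.inr h))
  have h5 := Finset.card_le_card h3
  have h6 : ({0, -1, r, s} : Finset F).card ≤ 4 := Finset.card_le_four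
  rw [Finset.card_univ, ← Nat.card_eq_fintype_card] at h5
  omega

theorem exists_good' (h4 : 4 < Nat.card F) : ∃ Y : F, Y ≠ 0 ∧ 1 - Y * Y ≠ 0 := by
  classical
  by_contra hcon
  push Not at hcon
  have := Fintype.ofFinite F
  have h3 : (Finset.univ : Finset F) ⊆ {0, -1, 1} := by
    intro Y _
    simp only [Finset.mem_insert, Finset.mem_singleton]
    by_cases h0 : Y = 0
    · exact Or.inl h0
    have h1 := hcon Y h0
    have h2 : (1 - Y) * (1 + Y) = 0 := by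
      have : (1 - Y) * (1 + Y) = 1 - Y * Y := by ring
      rw [this, h1]
    rcases mul_eq_zero.1 h2 with h | h
    · exact Or.inr (Or.inr (sub_eq_zero.1 h).symm)
    · right; left
      rw [add_comm] at h
      exact eq_neg_of_add_eq_zero_left h
  have h5 := Finset.card_le_card h3
  have h6 : ({0, -1, 1} : Finset F).card ≤ 3 := Finset.card_le_three
  rw [Finset.card_univ, ← Nat.card_eq_fintype_card] at h5
  omega

/-- `f` additive, `f Y = a f(a Y) + μ_a Y` for all `a ≠ 0` ⟹ `f` is linear. -/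
theorem field_lemma (h4 : 4 < Nat.card F) (f : F → F) (hadd : ∀ x y, f (x + y) = f x + f y)
    (h : ∀ a : F, a ≠ 0 → ∃ m : F, ∀ Y, f Y = a * f (a * Y) + m * Y) : ∃ c, ∀ Y, f Y = c * Y := by
  set c := f 1 with hc
  set g : F → F := fun Y => f Y - c * Y with hg
  have hg1 : g 1 = 0 := by simp [hg, hc]
  have hga : ∀ x y, g (x + y) = g x + g y := fun x y => by
    simp only [hg, hadd]; ring
  -- `a g(aY) = g(Y) + a g(a) Y`
  have h1 : ∀ a : F, a ≠ 0 → ∀ Y, a * g (a * Y) = g Y + a * g a * Y := by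
    intro a ha Y
    obtain ⟨m, hm⟩ := h a ha
    have e1 := hm Y
    have e2 := hm 1
    rw [mul_one, mul_one] at e2
    simp only [hg]
    have e3 : m = c - a * f a := by rw [hc, e2]; ring
    rw [e1, e3]
    ring
  have h2 : ∀ a : F, a ≠ 0 → ∀ Y : F, Y ≠ 0 → Y * g Y * (1 - a * a) = a * g a * (1 - Y * Y) := by
    intro a ha Y hY
    have e1 := h1 a ha Y
    have e2 := h1 Y hY a
    rw [mul_comm Y a] at e2
    have e3 : Y * (a * g (a * Y)) = a * (Y * g (a * Y)) := by ring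
    rw [e1, e2] at e3
    linear_combination e3
  obtain ⟨a, ha, ha1⟩ := exists_good' (F := F) h4
  set k : F := a * g a / (1 - a * a) with hk
  have h3 : ∀ Y : F, Y ≠ 0 → Y * g Y = k * (1 - Y * Y) := by
    intro Y hY
    have := h2 a ha Y hY
    rw [hk, div_mul_eq_mul_div, eq_div_iff ha1]
    exact this
  obtain ⟨Y, hY, hY1, hY2⟩ := exists_good (F := F) h4
  have e1 := h3 Y hY
  have e2 := h3 (Y + 1) hY1
  rw [hga, hg1, add_zero] at e2
  have hk0 : k = 0 := by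
    have e3 : k * (Y * Y + Y + 1) = 0 := by
      have e4 : Y * ((Y + 1) * g Y) = (Y + 1) * (Y * g Y) := by ring
      rw [e2, e1] at e4
      linear_combination (-1) * e4
    exact (mul_eq_zero.1 e3).resolve_right hY2
  refine ⟨c, fun Y => ?_⟩
  by_cases hY0 : Y = 0
  · have h0 := hadd 0 0
    rw [add_zero] at h0
    have : f 0 = 0 := by
      have : f 0 + 0 = f 0 + f 0 := by rw [add_zero]; exact h0
      exact (add_left_cancel this).symm
    rw [hY0, this, mul_zero]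
  · have h5 := h3 Y hY0
    rw [hk0, zero_mul] at h5
    exact sub_eq_zero.1 ((mul_eq_zero.1 h5).resolve_left hY0)

end field

/-! ### Coordinates -/

section crd

variable {G : Type u} [Group G] {F : Type} [Field F]

/-- Coordinates on `V`, `Z = {(x, 0)}`. -/
structure Crd (V Z : Subgroup G) (e : G → F × F) : Prop where
  mul : ∀ v ∈ V, ∀ w ∈ V, e (v * w) = e v + e w
  inj : ∀ v ∈ V, ∀ w ∈ V, e v = e w → v = w
  surj : ∀ p, ∃ v ∈ V, e v = p
  memZ : ∀ v, v ∈ Z ↔ v ∈ V ∧ (e v).2 = 0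

/-- The members of the spread `{Z^y : y ∈ L}` are `F`-lines. -/
def Spr (L V Z : Subgroup G) (e : G → F × F) : Prop :=
  ∀ y ∈ L, ∀ v ∈ cj y Z, v ≠ 1 → ∀ w, w ∈ cj y Z ↔ w ∈ V ∧ ∃ c : F, e w = (c * (e v).1, c * (e v).2)

/-- `g` acts on `V` as an element of `SL₂(F)`. -/
def SLact (V : Subgroup G) (e : G → F × F) (g : G) : Prop :=
  ∃ a b c d : F, a * d - b * c = 1 ∧
    ∀ v ∈ V, e (g * v * g⁻¹) = (a * (e v).1 + b * (e v).2, c * (e v).1 + d * (e v).2)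

namespace Crd

variable {V Z : Subgroup G} {e : G → F × F} (hc : Crd V Z e)
include hc

theorem one : e 1 = 0 := by
  have h := hc.mul 1 (one_mem _) 1 (one_mem _)
  rw [mul_one] at h
  have h2 : e 1 + 0 = e 1 + e 1 := by rw [add_zero]; exact h
  exact (add_left_cancel h2).symm

theorem inv {v : G} (hv : v ∈ V) : e v⁻¹ = - e v := by
  have h := hc.mul v hv v⁻¹ (inv_mem hv)
  rw [mul_inv_cancel, hc.one] at h
  exact (neg_eq_of_add_eq_zero_right h.symm).symm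

theorem ne_zero {v : G} (hv : v ∈ V) (h1 : v ≠ 1) : e v ≠ 0 := fun h =>
  h1 (hc.inj v hv 1 (one_mem _) (by rw [h, hc.one]))

end Crd

end crd

section lin

variable {G : Type u} [Group G] [Finite G] {F : Type} [Field F] {B L V Z : Subgroup G} {q : ℕ}
  {e : G → F × F} (h : NB B L V Z q) (hc : Crd V Z e) (hs : Spr L V Z e)
include h

theorem exists_ne_one {y : G} (hy : y ∈ L) : ∃ v ∈ cj y Z, v ≠ 1 := by
  by_contra hcon
  push Not at hcon
  have h1 : cj y Z = ⊥ := (eq_bot_iff_forall _).2 hcon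
  have h2 := h.cardZ
  rw [← card_cj y, h1, Subgroup.card_bot] at h2
  have := h.one
  omega

theorem cj_V {y : G} (hy : y ∈ L) : cj y V = V := by
  refine Subgroup.eq_of_le_of_card_ge ?_ (by rw [card_cj])
  rintro _ ⟨v, hv, rfl⟩
  exact h.nV y hy v hv

include hc hs

/-- the elements of the root groups act as transvections -/
theorem trans_act {y b : G} (hy : y ∈ L) (hb : b ∈ cj y B) : SLact V e b := by
  obtain ⟨k, hk, hkne⟩ := exists_ne h
  have hyk : y * k ∈ L := mul_mem hy hk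
  have hbL : b ∈ L := by
    rw [mem_cj] at hb
    have h1 := mul_mem (mul_mem hy (h.BL hb)) (inv_mem hy)
    have e1 : y * (y⁻¹ * b * y) * y⁻¹ = b := by group
    rwa [e1] at h1
  have hne : cj (y * k) Z ≠ cj y Z := by
    intro he
    rw [← cj_cj] at he
    apply hkne
    have h2 := congrArg (cj y⁻¹) he
    rwa [cj_inv_cj, cj_inv_cj] at h2
  obtain ⟨v₁, hv₁, hv₁1⟩ := exists_ne_one h hy
  obtain ⟨v₀, hv₀, hv₀1⟩ := exists_ne_one h hyk
  have hv₁V := h.cjV hy hv₁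
  have hv₀V := h.cjV hyk hv₀
  set p := e v₁ with hp
  set p₀ := e v₀ with hp₀
  -- the determinant
  have hD : p.1 * p₀.2 - p.2 * p₀.1 ≠ 0 := by
    intro hD
    apply hne
    refine ti h hyk hy fun hbot => hv₀1 ?_
    have h1 : v₀ ∈ cj y Z := by
      rw [hs y hy v₁ hv₁ hv₁1]
      refine ⟨hv₀V, ?_⟩
      by_cases h2 : p.1 = 0
      · have h3 : p.2 ≠ 0 := fun h3 => hc.ne_zero hv₁V hv₁1 (Prod.ext h2 h3)
        have h4 : p₀.1 = 0 := by
          rw [h2, zero_mul, zero_sub, neg_eq_zero] at hD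
          exact (mul_eq_zero.1 hD).resolve_left h3
        refine ⟨p₀.2 / p.2, Prod.ext ?_ ?_⟩
        · show p₀.1 = p₀.2 / p.2 * p.1
          rw [h2, mul_zero, h4]
        · show p₀.2 = p₀.2 / p.2 * p.2
          rw [div_mul_cancel₀ _ h3]
      · refine ⟨p₀.1 / p.1, Prod.ext ?_ ?_⟩
        · show p₀.1 = p₀.1 / p.1 * p.1
          rw [div_mul_cancel₀ _ h2]
        · show p₀.2 = p₀.1 / p.1 * p.2
          rw [div_mul_eq_mul_div, eq_div_iff h2]
          linear_combination hD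
    have h5 : v₀ ∈ cj (y * k) Z ⊓ cj y Z := mem_inf.2 ⟨hv₀, h1⟩
    rwa [hbot, mem_bot] at h5
  -- `[v₀, b] ∈ Z^y`
  obtain ⟨-, κ', hκ'⟩ := (hs y hy v₁ hv₁ hv₁1 _).1 (h.com' hy hb hv₀V)
  rw [← hp] at hκ'
  have hbv₀V : b * v₀ * b⁻¹ ∈ V := h.nV b hbL v₀ hv₀V
  have hev₀ : e (b * v₀ * b⁻¹) = (p₀.1 + κ' * p.1, p₀.2 + κ' * p.2) := by
    have e1 : b * v₀ * b⁻¹ = (b * v₀ * b⁻¹ * v₀⁻¹) * v₀ := by group
    rw [e1, hc.mul _ (mul_mem hbv₀V (inv_mem hv₀V)) _ hv₀V, hκ', ← hp₀]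
    exact Prod.ext (add_comm _ _) (add_comm _ _)
  -- on `Z^(yk)`
  have hM : ∀ w ∈ cj (y * k) Z, ∃ c : F, e w = (c * p₀.1, c * p₀.2) ∧
      e (b * w * b⁻¹) = (c * p₀.1 + c * κ' * p.1, c * p₀.2 + c * κ' * p.2) := by
    intro w hw
    have hwV := h.cjV hyk hw
    obtain ⟨-, c, hcw⟩ := (hs _ hyk v₀ hv₀ hv₀1 _).1 hw
    rw [← hp₀] at hcw
    obtain ⟨-, d, hd⟩ := (hs y hy v₁ hv₁ hv₁1 _).1 (h.com' hy hb hwV)
    rw [← hp] at hd
    have hbwV : b * w * b⁻¹ ∈ V := h.nV b hbL w hwV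
    have h1 : e (b * w * b⁻¹) = (c * p₀.1 + d * p.1, c * p₀.2 + d * p.2) := by
      have e1 : b * w * b⁻¹ = (b * w * b⁻¹ * w⁻¹) * w := by group
      rw [e1, hc.mul _ (mul_mem hbwV (inv_mem hwV)) _ hwV, hd, hcw]
      exact Prod.ext (add_comm _ _) (add_comm _ _)
    have hbyk : b * (y * k) ∈ L := mul_mem hbL hyk
    have h2 : b * w * b⁻¹ ∈ cj (b * (y * k)) Z := by
      rw [← cj_cj]; exact ⟨w, hw, rfl⟩
    have h3 : b * v₀ * b⁻¹ ∈ cj (b * (y * k)) Z := by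
      rw [← cj_cj]; exact ⟨v₀, hv₀, rfl⟩
    obtain ⟨-, c', hc'⟩ := (hs _ hbyk _ h3 (fun e1 => hv₀1 (conj_eq_one_iff.1 e1)) _).1 h2
    rw [hev₀, h1] at hc'
    have h4 := congrArg Prod.fst hc'
    have h5 := congrArg Prod.snd hc'
    dsimp only at h4 h5
    have h6 : (c' - c) * (p.1 * p₀.2 - p.2 * p₀.1) = 0 := by
      linear_combination p.2 * h4 - p.1 * h5
    have h7 : c' = c := sub_eq_zero.1 ((mul_eq_zero.1 h6).resolve_right hD)
    subst h7
    have h8 : (d - c' * κ') * p.1 = 0 := by linear_combination h4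
    have h9 : (d - c' * κ') * p.2 = 0 := by linear_combination h5
    have h10 : d = c' * κ' := by
      by_contra hcon
      have h11 : d - c' * κ' ≠ 0 := sub_ne_zero.2 hcon
      exact hc.ne_zero hv₁V hv₁1 (Prod.ext ((mul_eq_zero.1 h8).resolve_left h11)
        ((mul_eq_zero.1 h9).resolve_left h11))
    refine ⟨c', hcw, ?_⟩
    rw [h1, h10]
  set D := p.1 * p₀.2 - p.2 * p₀.1 with hDdef
  refine ⟨1 - κ' / D * p.1 * p.2, κ' / D * p.1 * p.1, -(κ' / D * p.2 * p.2), 1 + κ' / D * p.1 * p.2, by ring, ?_⟩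
  intro v hv
  -- `v = m w`
  have hV : cj y V = V := cj_V h hy
  have hsup := sup_eq (h.conj y) (x := y * k * y⁻¹) ⟨k, hk, rfl⟩ (by
    rw [cj_cj, inv_mul_cancel_right]
    exact hne)
  rw [cj_cj, inv_mul_cancel_right, hV] at hsup
  have hv' := hv
  rw [← hsup] at hv'
  obtain ⟨m, hm, w, hw, rfl⟩ := mem_sup_comm (fun a ha b hb => h.comm (h.cjV hy ha) (h.cjV hyk hb)) hv'
  obtain ⟨c, hcw, hcb⟩ := hM w hw
  obtain ⟨-, s, hsm⟩ := (hs y hy v₁ hv₁ hv₁1 _).1 hm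
  rw [← hp] at hsm
  have hmV := h.cjV hy hm
  have hwV := h.cjV hyk hw
  have e1 : b * (m * w) * b⁻¹ = m * (b * w * b⁻¹) := by
    have h1 := h.cZ'' hb hm
    calc b * (m * w) * b⁻¹ = (b * m) * w * b⁻¹ := by group
      _ = m * (b * w * b⁻¹) := by rw [h1]; group
  rw [e1, hc.mul m hmV _ (h.nV b hbL w hwV), hcb, hc.mul m hmV w hwV, hsm, hcw]
  refine Prod.ext ?_ ?_
  · show s * p.1 + (c * p₀.1 + c * κ' * p.1) = (1 - κ' / D * p.1 * p.2) * (s * p.1 + c * p₀.1) +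
      κ' / D * p.1 * p.1 * (s * p.2 + c * p₀.2)
    have : c * κ' * p.1 = κ' / D * p.1 * (c * D) := by field_simp
    rw [this, hDdef]
    ring
  · show s * p.2 + (c * p₀.2 + c * κ' * p.2) = -(κ' / D * p.2 * p.2) * (s * p.1 + c * p₀.1) +
      (1 + κ' / D * p.1 * p.2) * (s * p.2 + c * p₀.2)
    have : c * κ' * p.2 = κ' / D * p.2 * (c * D) := by field_simp
    rw [this, hDdef]
    ring

/-- **`L` acts as `SL₂(F)`.** -/
theorem lin {l : G} (hl : l ∈ L) : SLact V e l := by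
  let H : Subgroup G :=
    { carrier := {g | (∀ v, v ∈ V ↔ g * v * g⁻¹ ∈ V) ∧ SLact V e g}
      one_mem' := ⟨fun v => by simp, 1, 0, 0, 1, by ring, fun v _ => by
        have e1 : (1 : G) * v * 1⁻¹ = v := by group
        rw [e1]
        exact Prod.ext (by simp) (by simp)⟩
      mul_mem' := by
        rintro g k ⟨hg, a, b, c, d, h1, h2⟩ ⟨hk, a', b', c', d', h1', h2'⟩
        refine ⟨fun v => ?_, a * a' + b * c', a * b' + b * d', c * a' + d * c', c * b' + d * d', ?_, fun v hv => ?_⟩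
        · rw [hk v, hg]
          have e1 : g * k * v * (g * k)⁻¹ = g * (k * v * k⁻¹) * g⁻¹ := by group
          rw [e1]
        · linear_combination (a' * d' - b' * c') * h1 + h1'
        · have e1 : g * k * v * (g * k)⁻¹ = g * (k * v * k⁻¹) * g⁻¹ := by group
          rw [e1, h2 _ ((hk v).1 hv), h2' v hv]
          exact Prod.ext (by simp only; ring) (by simp only; ring)
      inv_mem' := by
        rintro g ⟨hg, a, b, c, d, h1, h2⟩
        have h3 : ∀ v, v ∈ V ↔ g⁻¹ * v * g⁻¹⁻¹ ∈ V := fun v => by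
          rw [hg (g⁻¹ * v * g⁻¹⁻¹)]
          have e1 : g * (g⁻¹ * v * g⁻¹⁻¹) * g⁻¹ = v := by group
          rw [e1]
        refine ⟨h3, d, -b, -c, a, by linear_combination h1, fun v hv => ?_⟩
        have h4 := h2 _ ((h3 v).1 hv)
        have e1 : g * (g⁻¹ * v * g⁻¹⁻¹) * g⁻¹ = v := by group
        rw [e1] at h4
        rw [h4]
        refine Prod.ext ?_ ?_
        · show (e (g⁻¹ * v * g⁻¹⁻¹)).1 = d * (a * (e (g⁻¹ * v * g⁻¹⁻¹)).1 + b * (e (g⁻¹ * v * g⁻¹⁻¹)).2) +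
            -b * (c * (e (g⁻¹ * v * g⁻¹⁻¹)).1 + d * (e (g⁻¹ * v * g⁻¹⁻¹)).2)
          linear_combination (-(e (g⁻¹ * v * g⁻¹⁻¹)).1) * h1
        · show (e (g⁻¹ * v * g⁻¹⁻¹)).2 = -c * (a * (e (g⁻¹ * v * g⁻¹⁻¹)).1 + b * (e (g⁻¹ * v * g⁻¹⁻¹)).2) +
            a * (c * (e (g⁻¹ * v * g⁻¹⁻¹)).1 + d * (e (g⁻¹ * v * g⁻¹⁻¹)).2)
          linear_combination (-(e (g⁻¹ * v * g⁻¹⁻¹)).2) * h1 }
  have h1 : L ≤ H := by
    refine h.gen.trans (iSup_le fun x => fun b hb => ⟨fun v => ?_, trans_act h hc hs x.2 hb⟩)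
    have hbL : b ∈ L := by
      have hb' := mem_cj.1 hb
      have h1 := mul_mem (mul_mem x.2 (h.BL hb')) (inv_mem x.2)
      have e1 : (x : G) * ((x : G)⁻¹ * b * x) * (x : G)⁻¹ = b := by group
      rwa [e1] at h1
    refine ⟨fun hv => h.nV b hbL v hv, fun hv => ?_⟩
    have h2 := h.toFB.nV' hbL hv
    have e1 : b⁻¹ * (b * v * b⁻¹) * b = v := by group
    rwa [e1] at h2
  exact (h1 hl).2

/-- **`N_L(B)` acts as `(a x + b y, a⁻¹ y)`.** -/
theorem bor {x : G} (hx : x ∈ L) (hxB : x ∈ normalizer (B : Set G)) : ∃ a b : F, a ≠ 0 ∧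
    ∀ v ∈ V, e (x * v * x⁻¹) = (a * (e v).1 + b * (e v).2, a⁻¹ * (e v).2) := by
  obtain ⟨a, b, c, d, h1, h2⟩ := lin h hc hs hx
  obtain ⟨z, hz, ez⟩ := hc.surj (1, 0)
  have hzZ : z ∈ Z := (hc.memZ z).2 ⟨hz, by rw [ez]⟩
  have h3 := h.nZ hx hxB hzZ
  have h4 := ((hc.memZ _).1 h3).2
  rw [h2 z hz, ez] at h4
  have hc0 : c = 0 := by simpa using h4
  subst hc0
  have h5 : a * d = 1 := by linear_combination h1
  have ha : a ≠ 0 := fun h6 => by rw [h6, zero_mul] at h5; exact zero_ne_one h5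
  refine ⟨a, b, ha, fun v hv => ?_⟩
  rw [h2 v hv, zero_mul, zero_add, eq_inv_of_mul_eq_one_right h5]

end lin

/-! ### The coordinates of a member of the spread -/

section new

variable {G : Type u} [Group G] [Finite G] {F : Type} [Field F] {B L V Z : Subgroup G} {q : ℕ}
  {e : G → F × F} (h : NB B L V Z q) (hc : Crd V Z e)

/-- The coordinates in which `{(f y, y)}` becomes `{(0, y)}`. -/
def nw (e : G → F × F) (f : F → F) : G → F × F := fun v => ((e v).1 - f (e v).2, (e v).2)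

include h hc

theorem exists_f {k : G} (hk : k ∈ L) (hne : cj k Z ≠ Z) : ∃ f : F → F, (∀ x y, f (x + y) = f x + f y) ∧
    ∀ u, u ∈ cj k Z ↔ u ∈ V ∧ (e u).1 = f (e u).2 := by
  have hsup := sup_eq h hk hne
  have hint := h.tri' hk hne
  have hUV := h.cjV hk
  have h1 : ∀ y : F, ∃ u ∈ cj k Z, (e u).2 = y := by
    intro y
    obtain ⟨v, hv, ev⟩ := hc.surj (0, y)
    rw [← hsup] at hv
    obtain ⟨z, hz, u, hu, rfl⟩ := mem_sup_comm (fun a ha b hb => h.comm (h.ZV ha) (hUV hb)) hv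
    refine ⟨u, hu, ?_⟩
    have h2 := congrArg Prod.snd ev
    rw [hc.mul z (h.ZV hz) u (hUV hu)] at h2
    have h3 : (e z).2 + (e u).2 = y := h2
    rwa [((hc.memZ z).1 hz).2, zero_add] at h3
  choose φ hφ hφ2 using h1
  have huniq : ∀ u ∈ cj k Z, ∀ w ∈ cj k Z, (e u).2 = (e w).2 → u = w := by
    intro u hu w hw he
    have h2 : u * w⁻¹ ∈ cj k Z ⊓ Z := by
      refine mem_inf.2 ⟨mul_mem hu (inv_mem hw), (hc.memZ _).2 ⟨mul_mem (hUV hu) (inv_mem (hUV hw)), ?_⟩⟩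
      rw [hc.mul u (hUV hu) _ (inv_mem (hUV hw)), hc.inv (hUV hw)]
      show (e u).2 + -(e w).2 = 0
      rw [he, add_neg_cancel]
    rw [hint, mem_bot] at h2
    exact mul_inv_eq_one.1 h2
  refine ⟨fun y => (e (φ y)).1, fun x y => ?_, fun u => ⟨fun hu => ⟨hUV hu, ?_⟩, ?_⟩⟩
  · have h3 : φ (x + y) = φ x * φ y := by
      refine huniq _ (hφ _) _ (mul_mem (hφ x) (hφ y)) ?_
      rw [hφ2, hc.mul _ (hUV (hφ x)) _ (hUV (hφ y))]
      show x + y = (e (φ x)).2 + (e (φ y)).2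
      rw [hφ2, hφ2]
    show (e (φ (x + y))).1 = (e (φ x)).1 + (e (φ y)).1
    rw [h3, hc.mul _ (hUV (hφ x)) _ (hUV (hφ y))]
    rfl
  · show (e u).1 = (e (φ (e u).2)).1
    rw [← huniq u hu _ (hφ _) (hφ2 _).symm]
  · rintro ⟨hu, he⟩
    have h4 : u = φ (e u).2 := by
      refine hc.inj u hu _ (hUV (hφ _)) (Prod.ext he ?_)
      rw [hφ2]
    rw [h4]
    exact hφ _

omit h [Finite G] in
theorem nw_crd {f : F → F} (hf : ∀ x y, f (x + y) = f x + f y) : Crd V Z (nw e f) where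
  mul v hv w hw := by
    unfold nw
    rw [hc.mul v hv w hw]
    refine Prod.ext ?_ rfl
    show (e v).1 + (e w).1 - f ((e v).2 + (e w).2) = (e v).1 - f (e v).2 + ((e w).1 - f (e w).2)
    rw [hf]; ring
  inj v hv w hw he := by
    have h1 : (e v).1 - f (e v).2 = (e w).1 - f (e w).2 := congrArg (fun p : F × F => p.1) he
    have h2' := congrArg Prod.snd he
    have h2 : (e v).2 = (e w).2 := h2'
    rw [h2] at h1
    exact hc.inj v hv w hw (Prod.ext (sub_left_injective h1) h2)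
  surj p := by
    obtain ⟨v, hv, ev⟩ := hc.surj (p.1 + f p.2, p.2)
    refine ⟨v, hv, ?_⟩
    unfold nw
    rw [ev]
    exact Prod.ext (by show p.1 + f p.2 - f p.2 = p.1; ring) rfl
  memZ v := hc.memZ v

/-- The spread of `L` in the new coordinates. -/
theorem nw_spr (hf : ∀ l : F, ∃ b ∈ B, ∀ v ∈ V, e (b * v * b⁻¹) = ((e v).1 + l * (e v).2, (e v).2)) {k : G}
    (hk : k ∈ L) (hne : cj k Z ≠ Z) {f : F → F} (hfa : ∀ x y, f (x + y) = f x + f y)
    (hU : ∀ u, u ∈ cj k Z ↔ u ∈ V ∧ (e u).1 = f (e u).2) : Spr L V Z (nw e f) := by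
  intro y hy v hv hv1 w
  have hvV := h.cjV hy hv
  have hn := nw_crd hc hfa
  by_cases hyZ : cj y Z = Z
  · rw [hyZ] at hv ⊢
    have hv2 : (e v).2 = 0 := ((hc.memZ v).1 hv).2
    have h2 : (nw e f v).2 = 0 := hv2
    have h3 : (nw e f v).1 ≠ 0 := fun h4 => hn.ne_zero hvV hv1 (Prod.ext h4 h2)
    constructor
    · intro hw
      refine ⟨h.ZV hw, (nw e f w).1 / (nw e f v).1, Prod.ext ?_ ?_⟩
      · show (nw e f w).1 = (nw e f w).1 / (nw e f v).1 * (nw e f v).1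
        rw [div_mul_cancel₀ _ h3]
      · show (e w).2 = (nw e f w).1 / (nw e f v).1 * (nw e f v).2
        rw [h2, mul_zero, ((hc.memZ w).1 hw).2]
    · rintro ⟨hw, c, hcw⟩
      refine (hc.memZ w).2 ⟨hw, ?_⟩
      have h5 := congrArg Prod.snd hcw
      have h6 : (e w).2 = c * (nw e f v).2 := h5
      rw [h6, h2, mul_zero]
  · -- `v ∉ Z`
    have hvZ : v ∉ Z := by
      intro hvZ
      have h1 : v ∈ cj y Z ⊓ Z := mem_inf.2 ⟨hv, hvZ⟩
      rw [h.tri' hy hyZ, mem_bot] at h1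
      exact hv1 h1
    have hv2 : (e v).2 ≠ 0 := fun h2 => hvZ ((hc.memZ v).2 ⟨hvV, h2⟩)
    set l : F := ((e v).1 - f (e v).2) / (e v).2 with hl
    have hl' : (e v).1 = f (e v).2 + l * (e v).2 := by
      rw [hl, div_mul_cancel₀ _ hv2]; ring
    obtain ⟨b, hb, hbe⟩ := hf l
    have hbL := h.BL hb
    -- the members of `cj b (cj k Z)`
    have key : ∀ w, w ∈ cj b (cj k Z) ↔ w ∈ V ∧ (e w).1 = f (e w).2 + l * (e w).2 := by
      intro w
      constructor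
      · rintro ⟨u, hu, rfl⟩
        change u ∈ cj k Z at hu
        show b * u * b⁻¹ ∈ V ∧ (e (b * u * b⁻¹)).1 = f (e (b * u * b⁻¹)).2 + l * (e (b * u * b⁻¹)).2
        obtain ⟨huV, hu1⟩ := (hU u).1 hu
        refine ⟨h.nV b hbL u huV, ?_⟩
        rw [hbe u huV]
        show (e u).1 + l * (e u).2 = f (e u).2 + l * (e u).2
        rw [hu1]
      · rintro ⟨hw, hw1⟩
        have hw' : b⁻¹ * w * b ∈ V := h.toFB.nV' hbL hw
        have e1 : b * (b⁻¹ * w * b) * b⁻¹ = w := by group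
        have h3 := hbe _ hw'
        rw [e1] at h3
        rw [mem_cj]
        refine (hU _).2 ⟨hw', ?_⟩
        have h4' := congrArg Prod.snd h3
        have h4 : (e w).2 = (e (b⁻¹ * w * b)).2 := h4'
        have h5 : (e w).1 = (e (b⁻¹ * w * b)).1 + l * (e (b⁻¹ * w * b)).2 := congrArg (fun p : F × F => p.1) h3
        rw [← h4] at h5 ⊢
        rw [hw1] at h5
        exact (add_right_cancel h5).symm
    have hM : cj y Z = cj b (cj k Z) := by
      rw [cj_cj]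
      refine ti h hy (mul_mem hbL hk) fun hbot => hv1 ?_
      have h1 : v ∈ cj y Z ⊓ cj (b * k) Z := by
        rw [← cj_cj]
        exact mem_inf.2 ⟨hv, (key v).2 ⟨hvV, hl'⟩⟩
      rwa [hbot, mem_bot] at h1
    rw [hM, key w]
    have hnv1 : (nw e f v).1 = l * (e v).2 := by
      show (e v).1 - f (e v).2 = l * (e v).2
      rw [hl']; ring
    constructor
    · rintro ⟨hw, hw1⟩
      refine ⟨hw, (e w).2 / (e v).2, Prod.ext ?_ ?_⟩
      · show (e w).1 - f (e w).2 = (e w).2 / (e v).2 * (nw e f v).1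
        rw [hnv1, hw1]
        field_simp
        ring
      · show (e w).2 = (e w).2 / (e v).2 * (e v).2
        rw [div_mul_cancel₀ _ hv2]
    · rintro ⟨hw, c, hcw⟩
      refine ⟨hw, ?_⟩
      have h5 : (e w).1 - f (e w).2 = c * (nw e f v).1 := congrArg Prod.fst hcw
      have h6 : (e w).2 = c * (e v).2 := congrArg Prod.snd hcw
      rw [hnv1] at h5
      have h7 : (e w).1 = f (e w).2 + c * (l * (e v).2) := by linear_combination h5
      rw [h7, h6]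
      ring

end new

section main

variable {G : Type u} [Group G] [Finite G] {F : Type} [Field F] [Finite F] {B L₁ L₂ V Z : Subgroup G} {q : ℕ}
  {e : G → F × F}

/-- `B` acts with full root groups -/
theorem rt_of (hc : Crd V Z e)
    (hf : ∀ l : F, ∃ b ∈ B, ∀ v ∈ V, e (b * v * b⁻¹) = ((e v).1 + l * (e v).2, (e v).2))
    (hBV : ∀ b ∈ B, ∀ v ∈ V, b * v * b⁻¹ ∈ V) : Rt B V Z := by
  intro v hv hvZ z hz
  have hv2 : (e v).2 ≠ 0 := fun h2 => hvZ ((hc.memZ v).2 ⟨hv, h2⟩)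
  obtain ⟨hzV, hz2⟩ := (hc.memZ z).1 hz
  obtain ⟨b, hb, hbe⟩ := hf ((e z).1 / (e v).2)
  refine ⟨b, hb, hc.inj _ (mul_mem (hBV b hb v hv) (inv_mem hv)) z hzV ?_⟩
  rw [hc.mul _ (hBV b hb v hv) _ (inv_mem hv), hc.inv hv, hbe v hv, div_mul_cancel₀ _ hv2]
  refine Prod.ext ?_ ?_
  · show (e v).1 + (e z).1 + -(e v).1 = (e z).1
    ring
  · show (e v).2 + -(e v).2 = (e z).2
    rw [hz2]; ring

/-- every member of the spread of `L₂` is an `F`-line -/
theorem line_of (hB : IsPGroup 2 B) (h₂ : NB B L₂ V Z q) (hc : Crd V Z e) (h4 : 4 < Nat.card F)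
    (hf : ∀ l : F, ∃ b ∈ B, ∀ v ∈ V, e (b * v * b⁻¹) = ((e v).1 + l * (e v).2, (e v).2))
    (hT : ∀ x ∈ L₂, x ∈ normalizer (B : Set G) → ∀ a : F, a ≠ 0 → (∀ v ∈ Z, (e (x * v * x⁻¹)).1 = a * (e v).1) →
      (∀ v ∈ V, (e (x * v * x⁻¹)).2 = a⁻¹ * (e v).2) →
      ∃ l : F, ∀ v ∈ V, (e (x * v * x⁻¹)).1 = a * (e v).1 + l * (e v).2)
    {k : G} (hk : k ∈ L₂) (hne : cj k Z ≠ Z) : ∃ c : F, ∀ u, u ∈ cj k Z ↔ u ∈ V ∧ (e u).1 = c * (e u).2 := by
  obtain ⟨f, hfa, hU⟩ := exists_f h₂ hc hk hne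
  have hn := nw_crd hc hfa
  have hs := nw_spr h₂ hc hf hk hne hfa hU
  have hr : Rt B V Z := rt_of hc hf fun b hb v hv => h₂.nV b (h₂.BL hb) v hv
  have hf0 : f 0 = 0 := by
    have h0 := hfa 0 0
    rw [add_zero] at h0
    have h1 : f 0 + 0 = f 0 + f 0 := by rw [add_zero]; exact h0
    exact (add_left_cancel h1).symm
  have hmem : ∀ y : F, ∃ u ∈ cj k Z, (e u).2 = y := by
    intro y
    obtain ⟨u, hu, eu⟩ := hc.surj (f y, y)
    exact ⟨u, (hU u).2 ⟨hu, by rw [eu]⟩, by rw [eu]⟩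
  have hstar : ∀ a : F, a ≠ 0 → ∃ m : F, ∀ Y, f Y = a * f (a * Y) + m * Y := by
    intro a ha
    obtain ⟨u₁, hu₁, e₁⟩ := hmem 1
    obtain ⟨u₂, hu₂, e₂⟩ := hmem a⁻¹
    have hV₁ := h₂.cjV hk hu₁
    have hV₂ := h₂.cjV hk hu₂
    have h11 : u₁ ≠ 1 := by
      rintro rfl
      rw [hc.one] at e₁
      exact zero_ne_one e₁
    have h21 : u₂ ≠ 1 := by
      rintro rfl
      rw [hc.one] at e₂
      exact inv_ne_zero ha e₂.symm
    obtain ⟨x, hx, hxB, hxu⟩ := trN h₂ hB hr hk hne hu₁ h11 hu₂ h21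
    obtain ⟨a', b, ha', hact⟩ := bor h₂ hn hs hx hxB
    have hsnd : ∀ v ∈ V, (e (x * v * x⁻¹)).2 = a'⁻¹ * (e v).2 := fun v hv => congrArg Prod.snd (hact v hv)
    have hfst : ∀ v ∈ V, (e (x * v * x⁻¹)).1 - f (e (x * v * x⁻¹)).2 = a' * ((e v).1 - f (e v).2) + b * (e v).2 :=
      fun v hv => congrArg Prod.fst (hact v hv)
    -- `a' = a`
    have haa : a' = a := by
      have hxV : x * u₁ * x⁻¹ ∈ V := h₂.nV x hx u₁ hV₁
      have h5 := ((hc.memZ _).1 hxu).2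
      rw [hc.mul _ hxV _ (inv_mem hV₂), hc.inv hV₂] at h5
      have h6 : (e (x * u₁ * x⁻¹)).2 + -(e u₂).2 = 0 := h5
      rw [hsnd u₁ hV₁, e₁, e₂, mul_one] at h6
      have h7 : a'⁻¹ = a⁻¹ := by linear_combination h6
      exact inv_injective h7
    subst haa
    obtain ⟨l, hl⟩ := hT x hx hxB a' ha (fun v hv => by
      have hvV := h₂.ZV hv
      have h5 := hfst v hvV
      rw [hsnd v hvV, ((hc.memZ v).1 hv).2, mul_zero, mul_zero, hf0] at h5
      linear_combination h5) hsnd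
    refine ⟨(l - b) * a', fun Y => ?_⟩
    obtain ⟨v, hv, ev⟩ := hc.surj (0, a' * Y)
    have h5 := hfst v hv
    rw [hsnd v hv, hl v hv, ev] at h5
    dsimp only at h5
    have h6 : a'⁻¹ * (a' * Y) = Y := by rw [← mul_assoc, inv_mul_cancel₀ ha, one_mul]
    rw [h6] at h5
    linear_combination -h5
  obtain ⟨c, hcY⟩ := field_lemma h4 f hfa hstar
  exact ⟨c, fun u => by rw [hU u, hcY]⟩

/-- **The spreads agree.** -/
theorem spread_eq (hB : IsPGroup 2 B) (h₁ : NB B L₁ V Z q) (h₂ : NB B L₂ V Z q) (hc : Crd V Z e)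
    (h4 : 4 < Nat.card F)
    (hf : ∀ l : F, ∃ b ∈ B, ∀ v ∈ V, e (b * v * b⁻¹) = ((e v).1 + l * (e v).2, (e v).2))
    {k₁ : G} (hk₁ : k₁ ∈ L₁) (hk₁Z : ∀ u, u ∈ cj k₁ Z ↔ u ∈ V ∧ (e u).1 = 0)
    (hm : ∀ x ∈ L₂, ∀ h ∈ L₁, x ∈ normalizer (B : Set G) → h ∈ normalizer (B : Set G) →
      (∀ z ∈ Z, x * h⁻¹ * z * (x * h⁻¹)⁻¹ = z) → (∀ v ∈ V, x * h⁻¹ * v * (x * h⁻¹)⁻¹ * v⁻¹ ∈ Z) →
      ∃ b ∈ B, ∀ v ∈ V, x * h⁻¹ * v * (x * h⁻¹)⁻¹ = b * v * b⁻¹) :
    ∀ y ∈ L₂, ∃ x ∈ L₁, cj y Z = cj x Z := by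
  have hne₁ : cj k₁ Z ≠ Z := by
    intro he
    obtain ⟨z, hz, ez⟩ := hc.surj (1, 0)
    have hzZ : z ∈ Z := (hc.memZ z).2 ⟨hz, by rw [ez]⟩
    have h1 := hzZ
    rw [← he] at h1
    have h2 := ((hk₁Z z).1 h1).2
    rw [ez] at h2
    exact one_ne_zero h2
  have hs₁ : Spr L₁ V Z e := by
    have h1 := nw_spr h₁ hc hf hk₁ hne₁ (f := fun _ => 0) (fun _ _ => by simp) hk₁Z
    have h2 : nw e (fun _ => (0 : F)) = e := by
      funext v
      exact Prod.ext (sub_zero _) rfl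
    rwa [h2] at h1
  have hT : ∀ x ∈ L₂, x ∈ normalizer (B : Set G) → ∀ a : F, a ≠ 0 → (∀ v ∈ Z, (e (x * v * x⁻¹)).1 = a * (e v).1) →
      (∀ v ∈ V, (e (x * v * x⁻¹)).2 = a⁻¹ * (e v).2) →
      ∃ l : F, ∀ v ∈ V, (e (x * v * x⁻¹)).1 = a * (e v).1 + l * (e v).2 := by
    intro x hx hxB a ha hxa hxd
    -- `h ∈ N_{L₁}(B)` with the same `a`
    obtain ⟨z, hz, ez⟩ := hc.surj (1, 0)
    obtain ⟨z', hz', ez'⟩ := hc.surj (a, 0)
    have hzZ : z ∈ Z := (hc.memZ z).2 ⟨hz, by rw [ez]⟩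
    have hzZ' : z' ∈ Z := (hc.memZ z').2 ⟨hz', by rw [ez']⟩
    have hz1 : z ≠ 1 := by
      rintro rfl
      rw [hc.one] at ez
      exact zero_ne_one (congrArg Prod.fst ez)
    have hz1' : z' ≠ 1 := by
      rintro rfl
      rw [hc.one] at ez'
      exact ha (congrArg Prod.fst ez').symm
    obtain ⟨h, hh, hhB, hhz⟩ := h₁.tor' hzZ hz1 hzZ' hz1'
    obtain ⟨a', b', ha', hact⟩ := bor h₁ hc hs₁ hh hhB
    have haa : a' = a := by
      have h5 := hact z hz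
      rw [hhz, ez', ez] at h5
      have h6 := congrArg Prod.fst h5
      dsimp only at h6
      rw [mul_one, mul_zero, add_zero] at h6
      exact h6.symm
    subst haa
    have hhV : ∀ v ∈ V, h⁻¹ * v * h ∈ V := fun v hv => h₁.toFB.nV' hh hv
    have hinv : ∀ v ∈ V, e v = (a' * (e (h⁻¹ * v * h)).1 + b' * (e (h⁻¹ * v * h)).2,
        a'⁻¹ * (e (h⁻¹ * v * h)).2) := by
      intro v hv
      have h5 := hact _ (hhV v hv)
      have e1 : h * (h⁻¹ * v * h) * h⁻¹ = v := by group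
      rwa [e1] at h5
    have hconj : ∀ v, x * h⁻¹ * v * (x * h⁻¹)⁻¹ = x * (h⁻¹ * v * h) * x⁻¹ := fun v => by group
    obtain ⟨b, hb, hbm⟩ := hm x hx h hh hxB hhB (fun z hz => by
      have hzV := h₁.ZV hz
      have hwV := hhV z hzV
      have hwZ : h⁻¹ * z * h ∈ Z := by
        have h5 := h₁.nZ (inv_mem hh) (inv_mem hhB) hz
        rwa [inv_inv] at h5
      rw [hconj]
      refine hc.inj _ (h₂.nV x hx _ hwV) z hzV (Prod.ext ?_ ?_)
      · rw [hxa _ hwZ]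
        have h6 := congrArg Prod.fst (hinv z hzV)
        dsimp only at h6
        rw [h6, ((hc.memZ _).1 hwZ).2]
        ring
      · rw [hxd _ hwV]
        exact (congrArg Prod.snd (hinv z hzV)).symm) (fun v hv => by
      have hwV := hhV v hv
      rw [hconj]
      refine (hc.memZ _).2 ⟨mul_mem (h₂.nV x hx _ hwV) (inv_mem hv), ?_⟩
      rw [hc.mul _ (h₂.nV x hx _ hwV) _ (inv_mem hv), hc.inv hv]
      show (e (x * (h⁻¹ * v * h) * x⁻¹)).2 + -(e v).2 = 0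
      rw [hxd _ hwV]
      have h6 : (e v).2 = a'⁻¹ * (e (h⁻¹ * v * h)).2 := congrArg Prod.snd (hinv v hv)
      rw [h6]; ring)
    -- `b` acts as `(x + l' y, y)`
    have hbL := h₁.BL hb
    obtain ⟨a₀, l', ha₀, hb'⟩ := bor h₁ hc hs₁ hbL (Subgroup.le_normalizer hb)
    have ha₀1 : a₀ = 1 := by
      have h5 := hb' z hz
      have h6 : b * z * b⁻¹ = z := by rw [h₁.cZ b hb z hzZ]; group
      rw [h6, ez] at h5
      have h7 := congrArg Prod.fst h5
      dsimp only at h7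
      rw [mul_one, mul_zero, add_zero] at h7
      exact h7.symm
    subst ha₀1
    refine ⟨b' + l' * a'⁻¹, fun v hv => ?_⟩
    have hvV : h * v * h⁻¹ ∈ V := h₁.nV h hh v hv
    have h5 := hbm _ hvV
    rw [hconj] at h5
    have e1 : h⁻¹ * (h * v * h⁻¹) * h = v := by group
    rw [e1] at h5
    rw [h5, hb' _ hvV, hact v hv]
    show 1 * (a' * (e v).1 + b' * (e v).2) + l' * (a'⁻¹ * (e v).2) = a' * (e v).1 + (b' + l' * a'⁻¹) * (e v).2
    ring
  intro y hy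
  by_cases hyZ : cj y Z = Z
  · exact ⟨1, one_mem _, by rw [hyZ, cj_one]⟩
  obtain ⟨c, hcU⟩ := line_of hB h₂ hc h4 hf hT hy hyZ
  obtain ⟨b, hb, hbe⟩ := hf c
  refine ⟨b * k₁, mul_mem (h₁.BL hb) hk₁, ?_⟩
  refine Subgroup.eq_of_le_of_card_ge ?_ (by rw [card_cj, card_cj])
  intro u hu
  obtain ⟨huV, hu1⟩ := (hcU u).1 hu
  have hw : b⁻¹ * u * b ∈ V := h₁.toFB.nV' (h₁.BL hb) huV
  rw [← cj_cj, mem_cj, hk₁Z]
  refine ⟨hw, ?_⟩
  have h3 := hbe _ hw
  have e1 : b * (b⁻¹ * u * b) * b⁻¹ = u := by group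
  rw [e1] at h3
  have h4'' := congrArg Prod.snd h3
  have h4' : (e u).2 = (e (b⁻¹ * u * b)).2 := h4''
  have h5 : (e u).1 = (e (b⁻¹ * u * b)).1 + c * (e (b⁻¹ * u * b)).2 := congrArg (fun p : F × F => p.1) h3
  rw [← h4', hu1] at h5
  have h6 : (e (b⁻¹ * u * b)).1 + c * (e u).2 = 0 + c * (e u).2 := by rw [← h5, zero_add]
  exact add_right_cancel h6

end main

/-! ### The 2-elements -/

section syl

variable {G : Type u} [Group G] [Finite G] {B V Z : Subgroup G}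

/-- An element of `N(B)` centralising `zc B`, trivial on `Z` and on `V / Z`, acts on `V` as an element of `B` (`B` is
Sylow in `C(zc B)`). -/
theorem tri_of_syl (hB : IsPGroup 2 B) {D : Subgroup G} (hD : ∀ Q : Subgroup G, Q ≤ D → IsPGroup 2 Q → B ≤ Q → Q = B)
    (hBD : B ≤ D) (hV : ∀ v ∈ V, ∀ w ∈ V, v * w = w * v) (h2 : ∀ v ∈ V, v * v = 1) {m : G}
    (hmB : m ∈ normalizer (B : Set G)) (hmD : m ∈ D) (hZV : Z ≤ V) (hmZ : ∀ z ∈ Z, m * z * m⁻¹ = z)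
    (hmV : ∀ v ∈ V, m * v * m⁻¹ * v⁻¹ ∈ Z) : ∃ b ∈ B, ∀ v ∈ V, m * v * m⁻¹ = b * v * b⁻¹ := by
  have : Fact (Nat.Prime 2) := ⟨Nat.prime_two⟩
  -- `m²` centralises `V`
  have hsq : ∀ v ∈ V, (m ^ 2) * v = v * m ^ 2 := by
    intro v hv
    set z := m * v * m⁻¹ * v⁻¹ with hz
    have hzZ : z ∈ Z := hmV v hv
    have e1 : m * v * m⁻¹ = z * v := by rw [hz]; group
    have e2 : m ^ 2 * v * (m ^ 2)⁻¹ = v := by
      have h3 := hmZ z hzZ
      calc m ^ 2 * v * (m ^ 2)⁻¹ = m * (m * v * m⁻¹) * m⁻¹ := by rw [pow_two]; group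
        _ = m * (z * v) * m⁻¹ := by rw [e1]
        _ = (m * z * m⁻¹) * (m * v * m⁻¹) := by group
        _ = z * (z * v) := by rw [h3, e1]
        _ = (z * z) * v := by group
        _ = v := by rw [h2 z (hZV hzZ), one_mul]
    calc (m ^ 2) * v = (m ^ 2 * v * (m ^ 2)⁻¹) * m ^ 2 := by group
      _ = v * m ^ 2 := by rw [e2]
  have hn : orderOf m ≠ 0 := (orderOf_pos m).ne'
  obtain ⟨k, r, hr, hkr⟩ := Nat.exists_eq_two_pow_mul_odd hn
  obtain ⟨s, hs⟩ := hr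
  -- `m ^ r` acts as `m`
  have hact : ∀ v ∈ V, m ^ r * v * (m ^ r)⁻¹ = m * v * m⁻¹ := by
    intro v hv
    have c1 : Commute (m ^ 2) v := hsq v hv
    have c2 : Commute ((m ^ 2) ^ s) v := c1.pow_left s
    have e1 : m ^ r = m * (m ^ 2) ^ s := by
      rw [hs, pow_succ, pow_mul, ← pow_mul, ← pow_succ, ← pow_succ']
    rw [e1]
    calc m * (m ^ 2) ^ s * v * (m * (m ^ 2) ^ s)⁻¹ = m * ((m ^ 2) ^ s * v) * ((m ^ 2) ^ s)⁻¹ * m⁻¹ := by group
      _ = m * (v * (m ^ 2) ^ s) * ((m ^ 2) ^ s)⁻¹ * m⁻¹ := by rw [c2.eq]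
      _ = m * v * m⁻¹ := by group
  refine ⟨m ^ r, ?_, fun v hv => (hact v hv).symm⟩
  have hb1 : (m ^ r) ^ (2 ^ k) = 1 := by
    rw [← pow_mul, mul_comm r, ← hkr, pow_orderOf_eq_one]
  have hb2 : IsPGroup 2 (zpowers (m ^ r)) := by
    rintro ⟨x, hx⟩
    refine ⟨k, ?_⟩
    obtain ⟨j, rfl⟩ := mem_zpowers_iff.mp hx
    apply Subtype.ext
    show ((m ^ r) ^ j) ^ (2 ^ k) = 1
    rw [← zpow_natCast, ← zpow_mul, mul_comm j, zpow_mul, zpow_natCast, hb1, one_zpow]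
  have hbN : zpowers (m ^ r) ≤ normalizer (B : Set G) := (zpowers_le).2 (pow_mem hmB r)
  have h3 : IsPGroup 2 (B ⊔ zpowers (m ^ r) : Subgroup G) := IsPGroup.to_sup_of_normal_left' hB hb2 hbN
  have h4 := hD _ (sup_le hBD ((zpowers_le).2 (pow_mem hmD r))) h3 le_sup_left
  have h5 : zpowers (m ^ r) ≤ B := by
    conv_rhs => rw [← h4]
    exact le_sup_right
  exact h5 (mem_zpowers _)

end syl

section uni

variable {G : Type u} [Group G] [Finite G] {F : Type} [Field F] [Finite F] {B L₁ L₂ V Z : Subgroup G} {q : ℕ}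
  {e : G → F × F}

/-- The spreads agree, `B` Sylow in `C(zc B)`. -/
theorem spread_eq' (hB : IsPGroup 2 B) (h₁ : NB B L₁ V Z q) (h₂ : NB B L₂ V Z q) (hc : Crd V Z e)
    (h4 : 4 < Nat.card F)
    (hf : ∀ l : F, ∃ b ∈ B, ∀ v ∈ V, e (b * v * b⁻¹) = ((e v).1 + l * (e v).2, (e v).2))
    {k₁ : G} (hk₁ : k₁ ∈ L₁) (hk₁Z : ∀ u, u ∈ cj k₁ Z ↔ u ∈ V ∧ (e u).1 = 0)
    (hD : ∀ Q : Subgroup G, Q ≤ centralizer (zc B : Set G) → IsPGroup 2 Q → B ≤ Q → Q = B)
    (hCC : ∀ z ∈ zc B, ∃ a ∈ Z, ∃ c : G, (∀ l ∈ L₁, l * c = c * l) ∧ (∀ l ∈ L₂, l * c = c * l) ∧ z = a * c) :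
    ∀ y ∈ L₂, ∃ x ∈ L₁, cj y Z = cj x Z := by
  refine spread_eq hB h₁ h₂ hc h4 hf hk₁ hk₁Z fun x hx h hh hxB hhB hz hv => ?_
  have hBD : B ≤ centralizer (zc B : Set G) := fun b hb =>
    mem_centralizer_iff.2 fun z hz => ((mem_zc.1 hz).2.2 b hb).symm
  refine tri_of_syl hB hD hBD (fun v hv w hw => h₁.comm hv hw) (fun v hv => by have h5 := elem_sq h₁.el v hv; rwa [pow_two] at h5)
    (mul_mem hxB (inv_mem hhB)) ?_ h₁.ZV hz hv
  refine mem_centralizer_iff.2 fun z hzc => ?_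
  obtain ⟨a, ha, c, hc1, hc2, rfl⟩ := hCC z hzc
  have c1 : Commute (x * h⁻¹) a := by
    have := hz a ha
    show x * h⁻¹ * a = a * (x * h⁻¹)
    calc x * h⁻¹ * a = (x * h⁻¹ * a * (x * h⁻¹)⁻¹) * (x * h⁻¹) := by group
      _ = a * (x * h⁻¹) := by rw [this]
  have c2 : Commute x c := hc2 x hx
  have c3 : Commute h c := hc1 h hh
  exact (c1.mul_right (c2.mul_left c3.inv_left)).symm.eq

/-- **Uniqueness of the block over `B` with given module, `q ≥ 8`.** -/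
theorem uniTwo8 (hWC : OM.WeakCl.WC B) (hB : IsPGroup 2 B) (h₁ : NB B L₁ V Z q) (h₂ : NB B L₂ V Z q) (hc : Crd V Z e)
    (h4 : 4 < Nat.card F)
    (hf : ∀ l : F, ∃ b ∈ B, ∀ v ∈ V, e (b * v * b⁻¹) = ((e v).1 + l * (e v).2, (e v).2))
    {k₁ : G} (hk₁ : k₁ ∈ L₁) (hk₁Z : ∀ u, u ∈ cj k₁ Z ↔ u ∈ V ∧ (e u).1 = 0)
    (hD : ∀ Q : Subgroup G, Q ≤ centralizer (zc B : Set G) → IsPGroup 2 Q → B ≤ Q → Q = B)
    (hCC : ∀ z ∈ zc B, ∃ a ∈ Z, ∃ c : G, (∀ l ∈ L₁, l * c = c * l) ∧ (∀ l ∈ L₂, l * c = c * l) ∧ z = a * c) :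
    L₂ ≤ L₁ ⊔ centralizer ((V ⊔ zc B : Subgroup G) : Set G) := by
  refine (OM.UniPlus.star_main hWC hB h₁ h₂ rfl rfl rfl fun y hy => ?_).2.2
  obtain ⟨x, hx, hxy⟩ := spread_eq' hB h₁ h₂ hc h4 hf hk₁ hk₁Z hD hCC y hy
  exact ⟨x, hx, fun v hv => ⟨v, hxy ▸ hv, 1, fun l _ => by rw [mul_one, one_mul], (mul_one v).symm⟩⟩

end uni

end Cfsg.Agent.Omega.OM.Var.Spread
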